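import Cfsg.Agent.Lib.LieMinimal.Small

/-!
# A good chamber of the alternating group of degree six for the prime two

The two minimal parabolics are the centralisers of a transposition and of a product of three disjoint ones.
-/

set_option autoImplicit false
set_option linter.unusedSectionVars false
set_option maxRecDepth 100000

namespace Cfsg.Agent.LieMinimal.AltSix

open Subgroup Equiv
open scoped Nat

/-- The involutions of the symmetric group whose centralisers give the parabolics. -/
def tr : Fin 2 → Perm (Fin 6)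
  | 0 => swap 4 5
  | 1 => swap 0 1 * swap 2 3 * swap 4 5

/-- Membership in a parabolic. -/
abbrev InP (i : Fin 2) (g : Perm (Fin 6)) : Prop := g * tr i = tr i * g

/-- Membership in the Sylow subgroup. -/
abbrev InS (g : Perm (Fin 6)) : Prop := InP 0 g ∧ InP 1 g

/-- Membership in one parabolic only. -/
abbrev InU (g : Perm (Fin 6)) : Prop := (InP 0 g ∨ InP 1 g) ∧ ¬ InS g

/-- The elements of the Sylow subgroup. -/
def elems : List (Perm (Fin 6)) :=
  let a := swap (0 : Fin 6) 1 * swap 4 5
  let b := swap (2 : Fin 6) 3 * swap 4 5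
  let c := swap (0 : Fin 6) 2 * swap 1 3
  [1, a, b, a * b, c, a * c, b * c, a * b * c]

/-- An element from which an element of one parabolic is reached in one step. -/
abbrev Reach (g : Perm (Fin 6)) : Prop := InU g ∨ InU (g * g) ∨ ∃ s ∈ elems, InU (g * s * g⁻¹)

theorem elems_check : ∀ s ∈ elems, Perm.sign s = 1 ∧ InS s := by decide +kernel

/-- The list of images of a permutation. -/
def code (g : Perm (Fin 6)) : List ℕ := ((List.finRange 6).map g).map Fin.val

/-- Composition of lists of images. -/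
def mulL (a b : List ℕ) : List ℕ := b.map fun i => a.getD i 0

/-- The inverse of a list of images. -/
def invL (a : List ℕ) : List ℕ := (List.range 6).map fun i => a.idxOf i

theorem code_getD (g : Perm (Fin 6)) (i : Fin 6) : (code g).getD i.val 0 = (g i).val := by
  fin_cases i <;> rfl

theorem code_mul (g h : Perm (Fin 6)) : code (g * h) = mulL (code g) (code h) := by
  simp only [mulL, code, List.map_map]
  exact List.map_congr_left fun i _ => (code_getD g (h i)).symm

theorem code_injective {g h : Perm (Fin 6)} (e : code g = code h) : g = h :=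
  Equiv.ext fun i => Fin.ext (by rw [← code_getD g i, ← code_getD h i, e])

theorem idxOf_map {α β : Type*} [DecidableEq α] [DecidableEq β] {f : α → β} (hf : Function.Injective f) (x : α) :
    ∀ l : List α, (l.map f).idxOf (f x) = l.idxOf x
  | [] => rfl
  | a :: l => by simp [List.idxOf_cons, hf.eq_iff, idxOf_map hf x l, beq_eq_decide]

theorem code_inv (g : Perm (Fin 6)) : code g⁻¹ = invL (code g) := by
  rw [code, invL, show List.range 6 = (List.finRange 6).map Fin.val from rfl]
  simp only [List.map_map]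
  refine List.map_congr_left fun i _ => ?_
  simp only [Function.comp_apply, code]
  have h : i.val = (Fin.val ∘ g) (g⁻¹ i) := by simp
  conv_rhs => rw [h, List.map_map, idxOf_map (Fin.val_injective.comp g.injective)]
  have key : ∀ j : Fin 6, (List.finRange 6).idxOf j = j.val := by decide +kernel
  exact (key _).symm

/-- The codes of all permutations. -/
def perms : List (List ℕ) := (List.range 6).permutations'

theorem code_mem (g : Perm (Fin 6)) : code g ∈ perms := by
  rw [perms, List.mem_permutations', code, show List.range 6 = (List.finRange 6).map Fin.val from rfl]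
  exact (Equiv.Perm.map_finRange_perm g).map _

/-- The codes of the two involutions and of the Sylow subgroup. -/
def trL : List (List ℕ) := [[0, 1, 2, 3, 5, 4], [1, 0, 3, 2, 5, 4]]

/-- Membership in a parabolic, on codes. -/
def inPB (i : ℕ) (a : List ℕ) : Bool := mulL a (trL.getD i []) == mulL (trL.getD i []) a

/-- Membership in the Sylow subgroup, on codes. -/
def inSB (a : List ℕ) : Bool := inPB 0 a && inPB 1 a

/-- Membership in one parabolic only, on codes. -/
def inUB (a : List ℕ) : Bool := (inPB 0 a || inPB 1 a) && !inSB a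

/-- The codes of the Sylow subgroup. -/
def elemsL : List (List ℕ) :=
  let a := [1, 0, 2, 3, 5, 4]
  let b := [0, 1, 3, 2, 5, 4]
  let c := [2, 3, 0, 1, 4, 5]
  [[0, 1, 2, 3, 4, 5], a, b, mulL a b, c, mulL a c, mulL b c, mulL a (mulL b c)]

/-- One step, on codes. -/
def reachB (a : List ℕ) : Bool :=
  inUB a || inUB (mulL a a) || elemsL.any fun s => inUB (mulL (mulL a s) (invL a))

theorem reachB_check : ∀ a ∈ perms,
    (inSB a || reachB a || elemsL.any fun s => reachB (mulL (mulL a s) (invL a))) = true := by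
  decide +kernel

theorem elemsL_eq : elems.map code = elemsL := by decide +kernel

theorem code_tr : code (tr 0) = trL.getD 0 [] ∧ code (tr 1) = trL.getD 1 [] := by decide +kernel

theorem inPB_iff (i : Fin 2) (g : Perm (Fin 6)) : inPB i.val (code g) = true ↔ InP i g := by
  have h : code (tr i) = trL.getD i.val [] := by
    fin_cases i
    exacts [code_tr.1, code_tr.2]
  rw [inPB, beq_iff_eq, ← h, ← code_mul, ← code_mul]
  exact ⟨fun e => code_injective e, fun e => congrArg code e⟩

theorem inSB_iff (g : Perm (Fin 6)) : inSB (code g) = true ↔ InS g := by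
  rw [inSB, Bool.and_eq_true]
  exact and_congr (inPB_iff 0 g) (inPB_iff 1 g)

theorem inUB_iff (g : Perm (Fin 6)) : inUB (code g) = true ↔ InU g := by
  rw [inUB, Bool.and_eq_true, Bool.or_eq_true, Bool.not_eq_true', ← Bool.not_eq_true, inSB_iff]
  exact and_congr (or_congr (inPB_iff 0 g) (inPB_iff 1 g)) Iff.rfl

theorem reachB_imp (g : Perm (Fin 6)) (h : reachB (code g) = true) : Reach g := by
  simp only [reachB, Bool.or_eq_true, List.any_eq_true, ← elemsL_eq, List.mem_map] at h
  rcases h with (h | h) | ⟨_, ⟨s, hs, rfl⟩, h⟩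
  · exact Or.inl ((inUB_iff g).1 h)
  · rw [← code_mul, inUB_iff] at h
    exact Or.inr (Or.inl h)
  · rw [← code_inv, ← code_mul, ← code_mul, inUB_iff] at h
    exact Or.inr (Or.inr ⟨s, hs, h⟩)

theorem reach_check (g : Perm (Fin 6)) : InS g ∨ Reach g ∨ ∃ s ∈ elems, Reach (g * s * g⁻¹) := by
  have h := reachB_check _ (code_mem g)
  simp only [Bool.or_eq_true, List.any_eq_true, ← elemsL_eq, List.mem_map] at h
  rcases h with (h | h) | ⟨_, ⟨s, hs, rfl⟩, h⟩
  · exact Or.inl ((inSB_iff g).1 h)
  · exact Or.inr (Or.inl (reachB_imp g h))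
  · rw [← code_inv, ← code_mul, ← code_mul] at h
    exact Or.inr (Or.inr ⟨s, hs, reachB_imp _ h⟩)

theorem move_check : ∀ i : Fin 2, ∃ g : Perm (Fin 6), Perm.sign g = 1 ∧ InP i g ∧ ∃ s ∈ elems, ¬ InS (g * s * g⁻¹) := by
  decide +kernel

theorem card_check :
    (Finset.univ.filter fun g : Perm (Fin 6) => Perm.sign g = 1 ∧ InS g).card = 8 ∧
      ∀ i : Fin 2, (Finset.univ.filter fun g : Perm (Fin 6) => Perm.sign g = 1 ∧ InP i g).card = 24 := by
  decide +kernel

local notation "A₆" => alternatingGroup (Fin 6)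

/-- The parabolics. -/
def P (i : Fin 2) : Subgroup A₆ := (centralizer ({tr i} : Set (Perm (Fin 6)))).comap (alternatingGroup (Fin 6)).subtype

theorem mem_P {i : Fin 2} {g : A₆} : g ∈ P i ↔ InP i g := by
  rw [P, mem_comap, mem_centralizer_iff]
  exact ⟨fun h => (h _ rfl).symm, fun h x hx => by rw [Set.mem_singleton_iff.1 hx]; exact h.symm⟩

/-- The Sylow subgroup. -/
def S : Subgroup A₆ := P 0 ⊓ P 1

theorem mem_S {g : A₆} : g ∈ S ↔ InS g := by rw [S, mem_inf, mem_P, mem_P]

theorem card_eq (H : Subgroup A₆) (q : Perm (Fin 6) → Prop) [DecidablePred q] (h : ∀ g : A₆, g ∈ H ↔ q g) :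
    Nat.card ↥H = (Finset.univ.filter fun g : Perm (Fin 6) => Perm.sign g = 1 ∧ q g).card := by
  rw [← Fintype.card_subtype, ← Nat.card_eq_fintype_card]
  exact Nat.card_congr
    { toFun := fun g => ⟨g.1.1, g.1.2, (h g.1).1 g.2⟩
      invFun := fun g => ⟨⟨g.1, g.2.1⟩, (h _).2 g.2.2⟩
      left_inv := fun _ => rfl
      right_inv := fun _ => rfl }

theorem card_S : Nat.card ↥S = 8 := (card_eq S _ fun _ => mem_S).trans card_check.1

theorem card_P (i : Fin 2) : Nat.card ↥(P i) = 24 := (card_eq (P i) _ fun _ => mem_P).trans (card_check.2 i)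

theorem S_le (i : Fin 2) : S ≤ P i := by
  fin_cases i
  exacts [inf_le_left, inf_le_right]

theorem good : Good 2 A₆ := by
  classical
  haveI : Fact (Nat.Prime 2) := ⟨Nat.prime_two⟩
  haveI : IsSimpleGroup A₆ := alternatingGroup.isSimpleGroup (by simp)
  have hG : Nat.card A₆ = 360 := by
    rw [nat_card_alternatingGroup, Nat.card_fin]; rfl
  have hidx : S.index = 45 := by
    have h := S.card_mul_index
    rw [card_S, hG] at h
    omega
  have hrel : ∀ i, S.relIndex (P i) = 3 := fun i => by
    have h := (S.subgroupOf (P i)).card_mul_index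
    rw [Nat.card_congr (subgroupOfEquivOfLe (S_le i)).toEquiv, card_S, card_P] at h
    show (S.subgroupOf (P i)).index = 3
    omega
  have hne : ∀ i, P i ≠ ⊤ := fun i h => by
    have h' := card_P i
    rw [h, card_top, hG] at h'
    norm_num at h'
  refine good_of_two S P (IsPGroup.of_card (n := 3) (by rw [card_S]; rfl)) (by rw [hidx]; norm_num) S_le
    (fun i h => ?_) (fun M hM => ?_) hne ?_ (Or.inl (Or.inr (Or.inr ⟨MulEquiv.refl _⟩)))
  · obtain ⟨g, hg, hgP, s, hs, hgs⟩ := move_check i
    obtain ⟨hs1, hs2⟩ := elems_check s hs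
    exact hgs (mem_S.1 ((mem_normalizer_iff.1 (h (mem_P.2 hgP : (⟨g, hg⟩ : A₆) ∈ P i)) ⟨s, hs1⟩).1 (mem_S.2 hs2)))
  · obtain ⟨g, hg, hgS⟩ := SetLike.exists_of_lt hM
    have hU : ∀ x : A₆, x ∈ M → InU x → ∃ i, P i ≤ M := by
      intro x hx ⟨hP, hS⟩
      rcases hP with hP | hP
      · exact ⟨0, le_of_prime_index (S_le 0) (by rw [hrel]; norm_num) hM.le (mem_P.2 hP) hx fun h => hS (mem_S.1 h)⟩
      · exact ⟨1, le_of_prime_index (S_le 1) (by rw [hrel]; norm_num) hM.le (mem_P.2 hP) hx fun h => hS (mem_S.1 h)⟩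
    have hmem : ∀ s ∈ elems, ∃ h : Perm.sign s = 1, (⟨s, h⟩ : A₆) ∈ M := fun s hs =>
      ⟨(elems_check s hs).1, hM.le (mem_S.2 (elems_check s hs).2)⟩
    have hR : ∀ x : A₆, x ∈ M → Reach x → ∃ i, P i ≤ M := by
      intro x hx h
      rcases h with h | h | ⟨s, hs, h⟩
      · exact hU x hx h
      · exact hU (x * x) (mul_mem hx hx) h
      · obtain ⟨h1, h2⟩ := hmem s hs
        exact hU (x * ⟨s, h1⟩ * x⁻¹) (mul_mem (mul_mem hx h2) (inv_mem hx)) h
    rcases reach_check g with h | h | ⟨s, hs, h⟩
    · exact absurd (mem_S.2 h) hgS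
    · exact hR g hg h
    · obtain ⟨h1, h2⟩ := hmem s hs
      exact hR (g * ⟨s, h1⟩ * g⁻¹) (mul_mem (mul_mem hg h2) (inv_mem hg)) h
  · by_contra hne'
    have h1 := Seitz.card_dvd_factorial_index hne'
    rw [hG] at h1
    have h2 : 24 ∣ Nat.card ↥(P 0 ⊔ P 1) := card_P 0 ▸ card_dvd_of_le le_sup_left
    have h3 := (P 0 ⊔ P 1).card_mul_index
    rw [hG] at h3
    have h4 : (P 0 ⊔ P 1).index = 15 := by
      obtain ⟨k, hk⟩ := h2
      rw [hk, mul_assoc] at h3
      have h5 : k * (P 0 ⊔ P 1).index = 15 := by omega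
      have key : ∀ d ∈ Nat.divisors 15, 360 ∣ d ! → d = 15 := by decide +kernel
      exact key _ (Nat.mem_divisors.2 ⟨Dvd.intro_left _ h5, by norm_num⟩) h1
    rw [h4] at h3
    have e0 : P 0 = P 0 ⊔ P 1 := eq_of_le_of_card_ge le_sup_left (by rw [card_P]; omega)
    have e1 : P 1 = P 0 ⊔ P 1 := eq_of_le_of_card_ge le_sup_right (by rw [card_P]; omega)
    have : P 0 = S := le_antisymm (le_inf le_rfl (e0.trans e1.symm).le) (S_le 0)
    have h8 := card_P 0
    rw [this, card_S] at h8
    omega

end Cfsg.Agent.LieMinimal.AltSix
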