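import Cfsg.Agent.EqLemmas
import Cfsg.Agent.Lib.PMinimal.Basic
import Mathlib.GroupTheory.Sylow
import Mathlib.GroupTheory.GroupAction.ConjAct
import Cfsg.Prelude.Def_LocalEven

/-!
# `p`-minimal groups over a group with minimal parabolic subgroups

* `Chamber p G` : a Borel subgroup `B = N_G(U)` and the minimal parabolic subgroups above it;
* `Chamber.map` : the image under a surjection with kernel in `B`;
* `Chamber.conclusion` : in a `p`-minimal `X` with normal subgroup `K` the normaliser of `U` is maximal and some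
  automorphisms fixing `U` permute the minimal parabolics transitively, whose number is a power of `p`.
-/

set_option autoImplicit false
set_option linter.unusedSectionVars false

namespace Cfsg.Agent.LieMinimal

open Subgroup

/-- A Borel subgroup and its minimal parabolic subgroups. -/
structure Chamber (p : ℕ) (G : Type*) [Group G] where
  r : ℕ
  U : Subgroup G
  B : Subgroup G
  P : Fin r → Subgroup G
  pgrp : IsPGroup p ↥U
  index : ¬ p ∣ U.relIndex B
  normalizer_eq : normalizer (U : Set G) = B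
  lt : ∀ i, B < P i
  exists_le : ∀ M, B < M → ∃ i, P i ≤ M
  sup_eq : B ⊔ ⨆ i, P i = ⊤
  ne_top : ∀ i, (B ⊔ ⨆ (j) (_ : j ≠ i), P j) ≠ ⊤

theorem mem_normalizer_of_map_le {G : Type*} [Group G] [Finite G] {U : Subgroup G} {g : G}
    (h : ∀ u ∈ U, g * u * g⁻¹ ∈ U) : g ∈ normalizer (U : Set G) := by
  refine mem_normalizer_iff.2 fun u => ⟨h u, fun hu => ?_⟩
  have e : U.map (MulAut.conj g).toMonoidHom = U :=
    eq_of_le_of_card_ge (by rintro _ ⟨v, hv, rfl⟩; exact h v hv)
      (card_map_of_injective (MulAut.conj g).injective).ge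
  rw [← e] at hu
  obtain ⟨v, hv, he⟩ := hu
  rwa [← (MulAut.conj g).injective (show MulAut.conj g v = MulAut.conj g u from he)]

namespace Chamber

variable {p : ℕ} {G : Type*} [Group G] (C : Chamber p G)

/-- The products of two minimal parabolics in either order coincide. -/
def Perm (i j : Fin C.r) : Prop :=
  ∀ x ∈ C.P i, ∀ y ∈ C.P j, ∃ y' ∈ C.P j, ∃ x' ∈ C.P i, x * y = y' * x'

/-- An end and an inner node of the diagram. -/
def Branch : Prop :=
  ∃ e c a b : Fin C.r, ∃ a₀ : Fin C.r, a ≠ b ∧ a ≠ c ∧ b ≠ c ∧ ¬ C.Perm c a ∧ ¬ C.Perm c b ∧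
    ∀ j, j ≠ e → ¬ C.Perm e j → j = a₀

/-- No automorphism fixing `U` exchanges two given minimal parabolics. -/
def Asym : Prop :=
  ∃ i j : Fin C.r, ∀ σ : MulAut G, C.U.map σ.toMonoidHom = C.U → (C.P i).map σ.toMonoidHom ≠ C.P j

theorem U_le : C.U ≤ C.B := C.normalizer_eq ▸ le_normalizer

/-- `U` contains all `p`-elements of `B`. -/
theorem pElement_mem [Finite G] [Fact p.Prime] {x : G} (hx : x ∈ C.B) {k : ℕ} (hk : x ^ p ^ k = 1) :
    x ∈ C.U := by
  have hn : (C.U.subgroupOf C.B).Normal := normal_subgroupOf_of_le_normalizer C.normalizer_eq.ge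
  have h1 : (QuotientGroup.mk' (C.U.subgroupOf C.B) ⟨x, hx⟩) ^ p ^ k = 1 := by
    rw [← map_pow]
    exact (congrArg _ (Subtype.ext hk : (⟨x, hx⟩ : ↥C.B) ^ p ^ k = 1)).trans (map_one _)
  have h2 : Nat.Coprime (p ^ k) (Nat.card (↥C.B ⧸ C.U.subgroupOf C.B)) :=
    Nat.Coprime.pow_left _ ((Fact.out : p.Prime).coprime_iff_not_dvd.2 C.index)
  have h3 : orderOf (QuotientGroup.mk' (C.U.subgroupOf C.B) ⟨x, hx⟩) = 1 :=
    Nat.eq_one_of_dvd_coprimes h2 (orderOf_dvd_of_pow_eq_one h1) (orderOf_dvd_natCard _)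
  have h4 := (QuotientGroup.eq_one_iff (N := C.U.subgroupOf C.B) ⟨x, hx⟩).1 (orderOf_eq_one_iff.1 h3)
  exact mem_subgroupOf.1 h4

/-- `U` is a maximal `p`-subgroup. -/
theorem eq_of_isPGroup [Finite G] [Fact p.Prime] {Q : Subgroup G} (hQ : IsPGroup p ↥Q) (hUQ : C.U ≤ Q) :
    Q = C.U := by
  refine le_antisymm ?_ hUQ
  by_contra hne
  have hlt : C.U.subgroupOf Q < ⊤ := lt_of_le_of_ne le_top fun e => hne (subgroupOf_eq_top.1 e)
  haveI := hQ.isNilpotent
  obtain ⟨y, hy, hyU⟩ := SetLike.exists_of_lt (normalizerCondition_of_isNilpotent _ hlt)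
  have hyB : (y : G) ∈ C.B := by
    rw [← C.normalizer_eq]
    exact mem_normalizer_of_map_le fun u hu => (mem_normalizer_iff.1 hy ⟨u, hUQ hu⟩).1 hu
  obtain ⟨k, hk⟩ := hQ y
  exact hyU (C.pElement_mem hyB (congrArg Subtype.val hk))

/-- `U` as a Sylow subgroup. -/
def sylow [Finite G] [Fact p.Prime] : Sylow p G where
  toSubgroup := C.U
  isPGroup' := C.pgrp
  is_maximal' := fun hQ hle => C.eq_of_isPGroup hQ hle

theorem B_le (i : Fin C.r) : C.B ≤ C.P i := (C.lt i).le

theorem eq_of_le {i k : Fin C.r} (h : C.P k ≤ C.P i) : k = i := by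
  by_contra hne
  refine C.ne_top k (top_le_iff.1 (C.sup_eq ▸ sup_le le_sup_left (iSup_le fun j => ?_)))
  rcases eq_or_ne j k with rfl | hj
  · exact h.trans (le_sup_of_le_right (le_iSup₂_of_le i (Ne.symm hne) le_rfl))
  · exact le_sup_of_le_right (le_iSup₂_of_le j hj le_rfl)

theorem P_injective : Function.Injective C.P := fun _ _ e => C.eq_of_le e.le

theorem eq_of_between {i : Fin C.r} {M : Subgroup G} (h : C.B < M) (hM : M ≤ C.P i) : M = C.P i := by
  obtain ⟨k, hk⟩ := C.exists_le M h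
  obtain rfl := C.eq_of_le (hk.trans hM)
  exact le_antisymm hM hk

theorem normalizer_eq_map (σ : MulAut G) (hσ : C.U.map σ.toMonoidHom = C.U) :
    C.B.map σ.toMonoidHom = C.B := by
  rw [← C.normalizer_eq, map_equiv_normalizer_eq, hσ]

/-- An automorphism fixing `U` permutes the minimal parabolics. -/
theorem exists_image (σ : MulAut G) (hσ : C.U.map σ.toMonoidHom = C.U) (i : Fin C.r) :
    ∃ k, (C.P i).map σ.toMonoidHom = C.P k := by
  have hB := C.normalizer_eq_map σ hσ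
  have hlt : C.B < (C.P i).map σ.toMonoidHom := by
    rw [← hB]
    exact (map_lt_map_iff_of_injective σ.injective).2 (C.lt i)
  obtain ⟨k, hk⟩ := C.exists_le _ hlt
  refine ⟨k, le_antisymm ?_ hk⟩
  have h1 : C.B < (C.P k).comap σ.toMonoidHom := by
    have := (comap_lt_comap_of_surjective (f := σ.toMonoidHom) σ.surjective).2 (C.lt k)
    have e : C.B.comap σ.toMonoidHom = C.B := by
      conv_lhs => rw [← hB]
      exact comap_map_eq_self_of_injective σ.injective _
    rwa [e] at this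
  have h2 : (C.P k).comap σ.toMonoidHom ≤ C.P i := by
    refine (comap_mono hk).trans (le_of_eq ?_)
    rw [comap_map_eq_self_of_injective σ.injective]
  rw [← C.eq_of_between h1 h2, map_comap_eq_self_of_surjective σ.surjective]

theorem perm_map {σ : MulAut G} {i j a b : Fin C.r} (hi : (C.P i).map σ.toMonoidHom = C.P a)
    (hj : (C.P j).map σ.toMonoidHom = C.P b) (h : C.Perm i j) : C.Perm a b := by
  intro x hx y hy
  rw [← hi] at hx
  rw [← hj] at hy
  obtain ⟨x₀, hx₀, rfl⟩ := hx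
  obtain ⟨y₀, hy₀, rfl⟩ := hy
  obtain ⟨y', hy', x', hx', e⟩ := h x₀ hx₀ y₀ hy₀
  exact ⟨σ y', hj ▸ ⟨y', hy', rfl⟩, σ x', hi ▸ ⟨x', hx', rfl⟩, by
    show σ x₀ * σ y₀ = _
    rw [← map_mul, e, map_mul]⟩

/-- The image under a surjection whose kernel lies in `B`. -/
noncomputable def map [Finite G] [Fact p.Prime] {H : Type*} [Group H] (f : G →* H)
    (hf : Function.Surjective f) (hker : f.ker ≤ C.B) : Chamber p H where
  r := C.r
  U := C.U.map f
  B := C.B.map f
  P i := (C.P i).map f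
  pgrp := C.pgrp.map f
  index h := C.index (h.trans (by
    rw [← relIndex_comap, comap_map_eq]
    exact relIndex_dvd_of_le_left _ le_sup_left))
  normalizer_eq := by
    refine le_antisymm (fun y hy => ?_) (by rw [← C.normalizer_eq]; exact le_normalizer_map f)
    obtain ⟨g, rfl⟩ := hf y
    refine ⟨g, C.normalizer_eq ▸ mem_normalizer_of_map_le fun u hu => ?_, rfl⟩
    have h1 : f (g * u * g⁻¹) ∈ C.U.map f := by
      rw [map_mul, map_mul, map_inv]
      exact (mem_normalizer_iff.1 hy _).1 ⟨u, hu, rfl⟩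
    obtain ⟨v, hv, e⟩ := h1
    obtain ⟨k, hk⟩ := C.pgrp ⟨u, hu⟩
    have hk' : u ^ p ^ k = 1 := congrArg Subtype.val hk
    refine C.pElement_mem (k := k) ?_ (by rw [conj_pow, hk', mul_one, mul_inv_cancel])
    rw [show g * u * g⁻¹ = v * (v⁻¹ * (g * u * g⁻¹)) by group]
    exact mul_mem (C.U_le hv) (hker (by rw [MonoidHom.mem_ker, map_mul, map_inv, e, inv_mul_cancel]))
  lt i := by
    refine lt_of_le_of_ne (map_mono (C.B_le i)) fun e => (C.lt i).ne ?_
    have := congrArg (comap f) e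
    rwa [comap_map_eq, comap_map_eq, sup_eq_left.2 hker, sup_eq_left.2 (hker.trans (C.B_le i))] at this
  exists_le M hM := by
    have h : C.B < M.comap f := by
      have := (comap_lt_comap_of_surjective hf).2 hM
      rwa [comap_map_eq, sup_eq_left.2 hker] at this
    obtain ⟨i, hi⟩ := C.exists_le _ h
    exact ⟨i, map_le_iff_le_comap.2 hi⟩
  sup_eq := by
    rw [← Subgroup.map_iSup, ← Subgroup.map_sup, C.sup_eq, map_top_of_surjective f hf]
  ne_top i h := C.ne_top i (by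
    have h' : (C.B ⊔ ⨆ (j) (_ : j ≠ i), C.P j).map f = ⊤ := by
      simp only [Subgroup.map_sup, Subgroup.map_iSup, h]
    have := congrArg (comap f) h'
    rwa [comap_map_eq, comap_top, sup_eq_left.2 (hker.trans le_sup_left)] at this)

theorem branch_map [Finite G] [Fact p.Prime] {H : Type*} [Group H] (f : G →* H)
    (hf : Function.Surjective f) (hker : f.ker ≤ C.B) (h : C.Branch) : (C.map f hf hker).Branch := by
  obtain ⟨e, c, a, b, a₀, hab, hac, hbc, ha, hb, he⟩ := h
  have key : ∀ i j, (C.map f hf hker).Perm i j ↔ C.Perm i j := by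
    intro i j
    refine ⟨fun h x hx y hy => ?_, fun h x hx y hy => ?_⟩
    · obtain ⟨_, ⟨y', hy', rfl⟩, _, ⟨x', hx', rfl⟩, e⟩ := h (f x) ⟨x, hx, rfl⟩ (f y) ⟨y, hy, rfl⟩
      have hz : (y' * x')⁻¹ * (x * y) ∈ C.P i :=
        C.B_le i (hker (by rw [MonoidHom.mem_ker, map_mul, map_inv, map_mul, map_mul, e, inv_mul_cancel]))
      exact ⟨y', hy', x' * ((y' * x')⁻¹ * (x * y)), mul_mem hx' hz, by group⟩
    · obtain ⟨x, hx, rfl⟩ := hx
      obtain ⟨y, hy, rfl⟩ := hy
      obtain ⟨y', hy', x', hx', e⟩ := h x hx y hy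
      exact ⟨f y', ⟨y', hy', rfl⟩, f x', ⟨x', hx', rfl⟩, by rw [← map_mul, e, map_mul]⟩
  exact ⟨e, c, a, b, a₀, hab, hac, hbc, fun h => ha ((key _ _).1 h), fun h => hb ((key _ _).1 h),
    fun j hj hn => he j hj fun h => hn ((key _ _).2 h)⟩

/-- Different orders give an asymmetry. -/
theorem asym_of_card {i j : Fin C.r} (h : Nat.card ↥(C.P i) ≠ Nat.card ↥(C.P j)) : C.Asym :=
  ⟨i, j, fun σ _ e => h (by rw [← e, card_map_of_injective σ.injective])⟩

/-- Transitivity on the minimal parabolics is incompatible with a branch. -/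
theorem not_branch (ht : ∀ i j, ∃ σ : MulAut G, C.U.map σ.toMonoidHom = C.U ∧ (C.P i).map σ.toMonoidHom = C.P j) :
    ¬ C.Branch := by
  rintro ⟨e, c, a, b, a₀, hab, hac, hbc, ha, hb, he⟩
  obtain ⟨σ, hσ, hce⟩ := ht c e
  obtain ⟨a', ha'⟩ := C.exists_image σ hσ a
  obtain ⟨b', hb'⟩ := C.exists_image σ hσ b
  have hinj := map_injective (f := σ.toMonoidHom) σ.injective
  have hsymm : ∀ {i j k}, (C.P i).map σ.toMonoidHom = C.P j → (C.P k).map σ.toMonoidHom = C.P j → i = k :=
    fun h1 h2 => C.P_injective (hinj (h1.trans h2.symm))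
  have hinv : ∀ {i j}, (C.P i).map σ.toMonoidHom = C.P j → (C.P j).map (σ⁻¹ : MulAut G).toMonoidHom = C.P i := by
    intro i j h
    rw [← h, Subgroup.map_map]
    have e : (σ⁻¹ : MulAut G).toMonoidHom.comp σ.toMonoidHom = MonoidHom.id G :=
      MonoidHom.ext fun x => σ.symm_apply_apply x
    rw [e, Subgroup.map_id]
  have hne : ∀ {x x'}, (C.P x).map σ.toMonoidHom = C.P x' → x ≠ c → ¬ C.Perm c x → x' = a₀ := fun hx hxc hP =>
    he _ (fun h => hxc (hsymm (h ▸ hx) hce)) fun h => hP (C.perm_map (hinv hce) (hinv hx) h)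
  exact hab (hsymm ha' (((hne ha' hac ha).trans (hne hb' hbc hb).symm) ▸ hb'))

end Chamber

section Conclusion

variable {p : ℕ} [Fact p.Prime] {X : Type*} [Group X] [Finite X] {K : Subgroup X} [K.Normal]

set_option maxHeartbeats 800000 in
theorem conclusion (hX : Cfsg.IsPMinimal p X) (C : Chamber p ↥K) (hB : C.B ≠ ⊤) :
    IsCoatom (normalizer (C.U.map K.subtype : Set X)) ∧
    (∀ i j, ∃ σ : MulAut ↥K, C.U.map σ.toMonoidHom = C.U ∧ (C.P i).map σ.toMonoidHom = C.P j) ∧
    (∃ k, C.r = p ^ k) ∧ (2 ≤ C.r → K ≠ ⊤) := by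
  classical
  have hr : 0 < C.r := by
    rw [Nat.pos_iff_ne_zero]
    intro h0
    haveI : IsEmpty (Fin C.r) := h0 ▸ Fin.isEmpty
    exact hB (by simpa using C.sup_eq)
  -- a Sylow subgroup of `X` above `U`
  obtain ⟨T, hT⟩ := (C.pgrp.map K.subtype).exists_le_sylow
  have hTK : (T : Subgroup X).subgroupOf K = C.U :=
    C.eq_of_isPGroup (T.2.comap_of_injective K.subtype K.subtype_injective) fun u hu => hT ⟨u, hu, rfl⟩
  set UX := C.U.map K.subtype with hUX
  set N := normalizer (UX : Set X) with hN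
  have hTN : (T : Subgroup X) ≤ N := fun t ht => mem_normalizer_of_map_le fun x hx => by
    obtain ⟨u, hu, rfl⟩ := hx
    refine ⟨⟨t * u * t⁻¹, ‹K.Normal›.conj_mem _ u.2 t⟩, ?_, rfl⟩
    rw [SetLike.mem_coe, ← hTK]
    exact mul_mem (mul_mem ht (hT ⟨u, hu, rfl⟩)) (inv_mem ht)
  let cj : X →* MulAut ↥K := MulAut.conjNormal
  have hcj : ∀ (t : X) (x : ↥K), ((cj t x : ↥K) : X) = t * x * t⁻¹ := fun t x => MulAut.conjNormal_apply _ _
  have hfix : ∀ t ∈ N, C.U.map (cj t).toMonoidHom = C.U := fun t ht => by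
    refine eq_of_le_of_card_ge ?_ (card_map_of_injective (cj t).injective).ge
    rintro _ ⟨u, hu, rfl⟩
    obtain ⟨v, hv, e⟩ := (mem_normalizer_iff.1 ht _).1 ⟨u, hu, rfl⟩
    rwa [show (cj t).toMonoidHom u = v from Subtype.ext ((hcj t u).trans e.symm)]
  let π : ↥N → Fin C.r → Fin C.r := fun t i => (C.exists_image _ (hfix t t.2) i).choose
  have hπ : ∀ (t : ↥N) i, (C.P i).map (cj t).toMonoidHom = C.P (π t i) := fun t i =>
    (C.exists_image _ (hfix t t.2) i).choose_spec
  have hπ1 : ∀ i, π 1 i = i := fun i => C.P_injective (by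
    rw [← hπ, Subgroup.coe_one, map_one]
    exact Subgroup.map_id _)
  have hπm : ∀ s t i, π (s * t) i = π s (π t i) := fun s t i => C.P_injective (by
    rw [← hπ, ← hπ, ← hπ, Subgroup.coe_mul, map_mul, Subgroup.map_map]
    rfl)
  letI act : MulAction ↥(T : Subgroup X) (Fin C.r) :=
    { smul := fun t i => π ⟨t, hTN t.2⟩ i
      one_smul := hπ1
      mul_smul := fun s t i => hπm ⟨s, hTN s.2⟩ ⟨t, hTN t.2⟩ i }
  obtain ⟨M, ⟨hM, hTM⟩, -⟩ := (hX T).2
  have hproper : ∀ H : Subgroup X, (T : Subgroup X) ≤ H → H ≠ ⊤ → H ≤ M := fun H hTH hH =>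
    PMinimal.le_of_sylow_le T hM hTM hX hTH hH
  have hNtop : N ≠ ⊤ := by
    intro hN'
    have hn : UX.Normal := normalizer_eq_top_iff.1 hN'
    refine hB (C.normalizer_eq ▸ normalizer_eq_top_iff.2 ⟨fun u hu g => ?_⟩)
    obtain ⟨v, hv, e⟩ := hn.conj_mem _ ⟨u, hu, rfl⟩ (g : X)
    rwa [show g * u * g⁻¹ = v from Subtype.ext e.symm]
  -- Frattini
  have hfrat : ∀ g : X, ∃ k : ↥K, (k : X)⁻¹ * g ∈ N := by
    intro g
    obtain ⟨k, hk⟩ := MulAction.exists_smul_eq ↥K C.sylow
      ({ toSubgroup := C.U.map (cj g).toMonoidHom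
         isPGroup' := C.pgrp.map _
         is_maximal' := fun {Q} hQ hle => by
           have h1 : C.U ≤ Q.map (cj g⁻¹).toMonoidHom := fun u hu =>
             ⟨cj g u, hle ⟨u, hu, rfl⟩, by
               show cj g⁻¹ (cj g u) = u
               rw [← MulAut.mul_apply, ← map_mul, inv_mul_cancel, map_one]; rfl⟩
           refine (eq_of_le_of_card_ge hle ?_).symm
           rw [card_map_of_injective (f := (cj g).toMonoidHom) (cj g).injective, ← C.eq_of_isPGroup (hQ.map _) h1,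
             card_map_of_injective (f := (cj g⁻¹).toMonoidHom) (cj g⁻¹).injective] } : Sylow p ↥K)
    refine ⟨k, mem_normalizer_of_map_le fun x hx => ?_⟩
    obtain ⟨u, hu, rfl⟩ := hx
    have h1 : cj g u ∈ ((k • C.sylow : Sylow p ↥K) : Subgroup ↥K) := hk ▸ ⟨u, hu, rfl⟩
    obtain ⟨v, hv, e⟩ := h1
    refine ⟨v, hv, ?_⟩
    have e' : (k : X) * v * (k : X)⁻¹ = g * u * g⁻¹ := (congrArg Subtype.val e).trans (hcj g u)
    show (v : X) = _
    calc (v : X) = (k : X)⁻¹ * ((k : X) * v * (k : X)⁻¹) * k := by group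
      _ = _ := by rw [e']; simp only [Subgroup.coe_subtype]; group
  have hcover : ∀ H : Subgroup X, K ≤ H → N ≤ H → H = ⊤ := fun H hKH hNH => eq_top_iff.2 fun g _ => by
    obtain ⟨k, hk⟩ := hfrat g
    simpa using mul_mem (hKH k.2) (hNH hk)
  have hBN : C.B.map K.subtype ≤ N := by
    rw [← C.normalizer_eq]
    exact le_normalizer_map _
  -- transitivity
  have htrans : ∀ i j : Fin C.r, ∃ t : ↥(T : Subgroup X), t • i = j := by
    intro i₀ j₀
    by_contra hne
    have key : ∀ O : Set (Fin C.r), (∀ (t : ↥(T : Subgroup X)), ∀ j ∈ O, t • j ∈ O) → O ≠ Set.univ →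
        ∀ j ∈ O, (C.P j).map K.subtype ≤ M := by
      intro O hO hOne j hj
      set S : Subgroup ↥K := C.B ⊔ ⨆ (k) (_ : k ∈ O), C.P k with hS
      obtain ⟨l, hl⟩ := (Set.ne_univ_iff_exists_notMem O).1 hOne
      have hStop : S ≠ ⊤ := fun e => by
        refine C.ne_top l (top_le_iff.1 (e.ge.trans ?_))
        rw [hS]
        refine sup_le_sup_left (iSup₂_le fun k hk => ?_) _
        exact le_iSup₂_of_le k (fun h : k = l => by subst h; exact hl hk) le_rfl
      set SX := S.map K.subtype with hSX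
      have hconj : ∀ t ∈ (T : Subgroup X), ∀ x ∈ SX, t * x * t⁻¹ ∈ SX := by
        intro t ht x hx
        obtain ⟨y, hy, rfl⟩ := hx
        refine ⟨cj t y, ?_, hcj t y⟩
        have : S.map (cj t).toMonoidHom ≤ S := by
          rw [hS, Subgroup.map_sup]
          refine sup_le_sup (le_of_eq (C.normalizer_eq_map _ (hfix t (hTN ht)))) ?_
          simp only [Subgroup.map_iSup]
          refine iSup₂_le fun k hk => ?_
          rw [hπ ⟨t, hTN ht⟩ k]
          exact le_iSup₂_of_le _ (hO ⟨t, ht⟩ k hk) le_rfl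
        exact this ⟨y, hy, rfl⟩
      have hsplit : ∀ g ∈ SX ⊔ (T : Subgroup X), ∃ s ∈ SX, ∃ t ∈ (T : Subgroup X), g = s * t := by
        intro g hg
        rw [← SetLike.mem_coe, coe_mul_of_right_le_normalizer_left SX (T : Subgroup X)
          fun t ht => mem_normalizer_of_map_le (hconj t ht)] at hg
        obtain ⟨s, hs, t, ht, e⟩ := hg
        exact ⟨s, hs, t, ht, e.symm⟩
      have hne' : SX ⊔ (T : Subgroup X) ≠ ⊤ := by
        intro e
        refine hStop (eq_top_iff.2 fun y _ => ?_)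
        obtain ⟨s, hs, t, ht, e'⟩ := hsplit (y : X) (e ▸ mem_top _)
        obtain ⟨s₀, hs₀, rfl⟩ := hs
        have htK : t ∈ K := by
          have := mul_mem (inv_mem s₀.2) y.2
          rwa [e', ← mul_assoc, Subgroup.coe_subtype, inv_mul_cancel, one_mul] at this
        have htU : (⟨t, htK⟩ : ↥K) ∈ C.U := hTK.le ht
        rw [show y = s₀ * ⟨t, htK⟩ from Subtype.ext e']
        exact mul_mem hs₀ (Subgroup.mem_sup_left (C.U_le htU))
      exact (map_mono (le_sup_of_le_right (le_iSup₂_of_le j hj le_rfl))).trans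
        (le_sup_left.trans (hproper _ le_sup_right hne'))
    have hall : ∀ j, (C.P j).map K.subtype ≤ M := by
      intro j
      by_cases hj : ∃ t : ↥(T : Subgroup X), t • i₀ = j
      · refine key {j | ∃ t : ↥(T : Subgroup X), t • i₀ = j} ?_ ?_ j hj
        · rintro s _ ⟨t, rfl⟩
          exact ⟨s * t, mul_smul s t i₀⟩
        · exact fun e => hne (Set.eq_univ_iff_forall.1 e j₀)
      · refine key {j | ¬ ∃ t : ↥(T : Subgroup X), t • i₀ = j} ?_ ?_ j hj
        · rintro s k hk ⟨t, e⟩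
          exact hk ⟨s⁻¹ * t, by rw [mul_smul, e, inv_smul_smul]⟩
        · exact fun e => (Set.eq_univ_iff_forall.1 e i₀) ⟨1, one_smul _ _⟩
    refine hM.1 (hcover M ?_ (hproper N hTN hNtop))
    have h1 : (C.B ⊔ ⨆ i, C.P i).map K.subtype ≤ M := by
      rw [Subgroup.map_sup, Subgroup.map_iSup]
      exact sup_le (hBN.trans (hproper N hTN hNtop)) (iSup_le hall)
    rwa [C.sup_eq, ← MonoidHom.range_eq_map, range_subtype] at h1
  refine ⟨⟨hNtop, fun H hH => ?_⟩, fun i j => ?_, ?_, fun h2 hK => ?_⟩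
  · -- maximality
    have hlt : C.B < H.subgroupOf K := by
      refine lt_of_le_of_ne (fun b hb => hH.le (hBN ⟨b, hb, rfl⟩)) fun e => hH.ne (le_antisymm hH.le fun g hg => ?_)
      obtain ⟨k, hk⟩ := hfrat g
      have hkB : k ∈ C.B := e ▸ (show (k : X) ∈ H by simpa using mul_mem hg (inv_mem (hH.le hk)))
      simpa using mul_mem (hBN ⟨k, hkB, rfl⟩) hk
    obtain ⟨i, hi⟩ := C.exists_le _ hlt
    have hall : ∀ j, C.P j ≤ H.subgroupOf K := fun j => by
      obtain ⟨t, rfl⟩ := htrans i j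
      show C.P (π ⟨t, hTN t.2⟩ i) ≤ _
      rw [← hπ]
      rintro _ ⟨y, hy, rfl⟩
      show ((cj t y : ↥K) : X) ∈ H
      rw [hcj]
      exact mul_mem (mul_mem (hH.le (hTN t.2)) (hi hy)) (inv_mem (hH.le (hTN t.2)))
    refine hcover H ?_ hH.le
    have h := sup_le hlt.le (iSup_le hall)
    rw [C.sup_eq, top_le_iff, subgroupOf_eq_top] at h
    exact h
  · obtain ⟨t, rfl⟩ := htrans i j
    exact ⟨cj t, hfix t (hTN t.2), hπ ⟨t, hTN t.2⟩ i⟩
  · obtain ⟨k, hk⟩ := T.2.card_orbit (⟨0, hr⟩ : Fin C.r)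
    refine ⟨k, ?_⟩
    rw [← hk, Set.eq_univ_of_forall fun j => (MulAction.mem_orbit_iff.2 (htrans _ j) :
      j ∈ MulAction.orbit ↥(T : Subgroup X) (⟨0, hr⟩ : Fin C.r)), Nat.card_coe_set_eq, Set.ncard_univ,
      Nat.card_fin]
  · -- the elements of `T` lie in `B`
    obtain ⟨t, ht⟩ := htrans ⟨0, hr⟩ ⟨1, by omega⟩
    have h01 : (C.P ⟨0, hr⟩) = C.P (t • (⟨0, hr⟩ : Fin C.r)) := by
      show _ = C.P (π ⟨t, hTN t.2⟩ _)
      rw [← hπ]
      have htK : (t : X) ∈ K := hK ▸ mem_top _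
      have htP : (⟨t, htK⟩ : ↥K) ∈ C.P ⟨0, hr⟩ := C.B_le _ (C.U_le (hTK.le t.2))
      have e : cj t = MulAut.conj (⟨t, htK⟩ : ↥K) := MulEquiv.ext fun x => Subtype.ext (hcj t x)
      rw [e]
      refine (eq_of_le_of_card_ge ?_ (card_map_of_injective (MulAut.conj _).injective).ge).symm
      rintro _ ⟨y, hy, rfl⟩
      exact mul_mem (mul_mem htP hy) (inv_mem htP)
    rw [ht] at h01
    have := congrArg Fin.val (C.P_injective h01)
    simp at this

end Conclusion

end Cfsg.Agent.LieMinimal
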