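import Cfsg.Agent.Lib.LieMinimal.Rooted
import Cfsg.Agent.Lib.ChevAut.Decomp
import Cfsg.Agent.Lib.ChevAut.Setup
import Cfsg.Agent.Lib.ChevBN.RootTables
import Cfsg.Agent.Lib.Chev.All
import Cfsg.Agent.Lib.Chev.SylowU
import Cfsg.Agent.Lib.TwistE6D4.Orders
import Cfsg.Agent.Lib.Twisted.F4Facts

/-!
# Good chambers: Chevalley groups and twisted groups

* `good_chev_big`, `good_g2`, `good_twistedE6`, `good_twistedD4`, `good_twistedF4`.
-/

set_option autoImplicit false
set_option linter.unusedSectionVars false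
set_option maxRecDepth 20000

namespace Cfsg.Agent.LieMinimal

open Subgroup Cfsg.Agent.RGD
open Cfsg.Lie Cfsg.Lie.ChevalleyDatum Cfsg.Agent.Chev Cfsg.Agent.ChevBN

section Chev

variable {D : ChevalleyDatum} {M : List (List ℤ)} {d : ℤ} (hD : Cfsg.Agent.Chev.Good D) (hR : Roots D M d)
  (F : Type*) [Field F] [Fintype F] {p : ℕ} [Fact p.Prime] [CharP F p]

include hD hR

theorem chev_sylow :
    IsPGroup p ↥(chevRGD hD hR F).Upos ∧
      ¬ p ∣ ((chevRGD hD hR F).Upos.subgroupOf (chevRGD hD hR F).G).index := by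
  refine ⟨by rw [chev_Upos hD hR]; exact BT.isPGroup_pos p hD, ?_⟩
  obtain ⟨P, hP⟩ := ChevAut.exists_sylow hD hR (F := F) p
  have h := P.not_dvd_index
  rw [hP] at h
  show ¬ p ∣ (chevRGD hD hR F).Upos.relIndex (chevRGD hD hR F).G
  rw [chev_Upos hD hR, chev_G hD hR]
  exact h

theorem good_chev (hr : 2 ≤ D.rank)
    (h3 : 3 ≤ D.rank → ∃ e c a b a₀ : Fin D.rank, a ≠ b ∧ a ≠ c ∧ b ≠ c ∧
      wN D c.val (D.simple a) ≠ D.simple a ∧ wN D c.val (D.simple b) ≠ D.simple b ∧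
      ∀ j : Fin D.rank, j ≠ e → wN D e.val (D.simple j) ≠ D.simple j → j = a₀)
    (h2 : D.rank = 2 → p ≠ 2) : LieMinimal.Good p ↥(D.group F) := by
  haveI : Finite ↥(chevRGD hD hR F).G := inferInstance
  refine good_of_rgd (chevRGD hD hR F) (chev_sylow hD hR F).1 (chev_sylow hD hR F).2 (by omega)
    (MulEquiv.subgroupCongr (chev_G hD hR)).toMonoidHom (MulEquiv.surjective _) (fun x hx => ?_)
    (fun h => absurd h (by omega)) (fun h => ?_) fun h hp => absurd hp (h2 h)
  · obtain rfl : x = 1 := (MulEquiv.subgroupCongr (chev_G hD hR)).injective (hx.trans (map_one _).symm)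
    exact one_mem _
  · obtain ⟨e, c, a, b, a₀, hab, hac, hbc, ha, hb, he⟩ := h3 h
    exact ⟨e, c, a, b, a₀, hab, hac, hbc, fun h => ha (congrArg Fin.val h), fun h => hb (congrArg Fin.val h),
      fun j hj hn => he j hj fun h => hn (Fin.ext h)⟩

end Chev

section Exceptional

variable (F : Type*) [Field F] [Fintype F] {p : ℕ} [Fact p.Prime] [CharP F p]

theorem branchF4 : ∀ j : Fin chevF4.rank, j.val ≠ 0 → wN chevF4 0 (chevF4.simple j) ≠ chevF4.simple j → j.val = 1 := by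
  decide +kernel

theorem nodesF4 : chevF4.rank = 4 ∧ wN chevF4 1 (chevF4.simple 0) ≠ chevF4.simple 0 ∧
    wN chevF4 1 (chevF4.simple 2) ≠ chevF4.simple 2 := by decide +kernel

theorem branchE6 : ∀ j : Fin chevE6.rank, j.val ≠ 0 → wN chevE6 0 (chevE6.simple j) ≠ chevE6.simple j → j.val = 2 := by
  decide +kernel

theorem nodesE6 : chevE6.rank = 6 ∧ wN chevE6 3 (chevE6.simple 1) ≠ chevE6.simple 1 ∧
    wN chevE6 3 (chevE6.simple 2) ≠ chevE6.simple 2 := by decide +kernel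

theorem branchE7 : ∀ j : Fin chevE7.rank, j.val ≠ 0 → wN chevE7 0 (chevE7.simple j) ≠ chevE7.simple j → j.val = 2 := by
  decide +kernel

theorem nodesE7 : chevE7.rank = 7 ∧ wN chevE7 3 (chevE7.simple 1) ≠ chevE7.simple 1 ∧
    wN chevE7 3 (chevE7.simple 2) ≠ chevE7.simple 2 := by decide +kernel

theorem branchE8 : ∀ j : Fin chevE8.rank, j.val ≠ 0 → wN chevE8 0 (chevE8.simple j) ≠ chevE8.simple j → j.val = 2 := by
  decide +kernel

theorem nodesE8 : chevE8.rank = 8 ∧ wN chevE8 3 (chevE8.simple 1) ≠ chevE8.simple 1 ∧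
    wN chevE8 3 (chevE8.simple 2) ≠ chevE8.simple 2 := by decide +kernel

theorem rankG2 : chevG2.rank = 2 := by decide +kernel

theorem good_f4 : LieMinimal.Good p ↥(chevF4.group F) := by
  obtain ⟨h4, h1, h2⟩ := nodesF4
  refine good_chev DataF4.good rootsF4 F (by omega) (fun _ => ⟨⟨0, by omega⟩, ⟨1, by omega⟩, ⟨0, by omega⟩, ⟨2, by omega⟩,
    ⟨1, by omega⟩, by simp, by simp, by simp, h1, h2, fun j hj hn => Fin.ext (branchF4 j (fun h => hj (Fin.ext h)) hn)⟩)
    fun h => absurd h (by omega)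

theorem good_e6 : LieMinimal.Good p ↥(chevE6.group F) := by
  obtain ⟨h6, h1, h2⟩ := nodesE6
  refine good_chev DataE6.good rootsE6 F (by omega) (fun _ => ⟨⟨0, by omega⟩, ⟨3, by omega⟩, ⟨1, by omega⟩, ⟨2, by omega⟩,
    ⟨2, by omega⟩, by simp, by simp, by simp, h1, h2, fun j hj hn => Fin.ext (branchE6 j (fun h => hj (Fin.ext h)) hn)⟩)
    fun h => absurd h (by omega)

theorem good_e7 : LieMinimal.Good p ↥(chevE7.group F) := by
  obtain ⟨h7, h1, h2⟩ := nodesE7
  refine good_chev DataE7.good rootsE7 F (by omega) (fun _ => ⟨⟨0, by omega⟩, ⟨3, by omega⟩, ⟨1, by omega⟩, ⟨2, by omega⟩,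
    ⟨2, by omega⟩, by simp, by simp, by simp, h1, h2, fun j hj hn => Fin.ext (branchE7 j (fun h => hj (Fin.ext h)) hn)⟩)
    fun h => absurd h (by omega)

theorem good_e8 : LieMinimal.Good p ↥(chevE8.group F) := by
  obtain ⟨h8, h1, h2⟩ := nodesE8
  refine good_chev DataE8.good rootsE8 F (by omega) (fun _ => ⟨⟨0, by omega⟩, ⟨3, by omega⟩, ⟨1, by omega⟩, ⟨2, by omega⟩,
    ⟨2, by omega⟩, by simp, by simp, by simp, h1, h2, fun j hj hn => Fin.ext (branchE8 j (fun h => hj (Fin.ext h)) hn)⟩)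
    fun h => absurd h (by omega)

end Exceptional

section G2

open Cfsg.Agent.ChevAut Cfsg.Agent.ChevSt

variable {F : Type*} [Field F] [Fintype F]

local notation "hG" => Cfsg.Agent.Chev.DataG2.good

/-- An automorphism of `G₂(2^e)` is an inner one times one preserving all root subgroups. -/
theorem g2_aut_split [CharP F 2] (θ : chevG2.group F ≃* chevG2.group F) :
    ∃ (x : chevG2.group F) (h : chevG2.group F ≃* chevG2.group F), (∀ y, θ y = x * h y * x⁻¹) ∧
      ∀ r < chevG2.nroots, ∀ t : F, ∃ u : F, h (gx hG r t) = gx hG r u := by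
  obtain ⟨x, dg, g, f, ⟨χ, hχ, hd⟩, ⟨π, -, hg⟩, ⟨τ, hf⟩, he⟩ := aut_decomposition chevG2 (by simp) θ
  obtain ⟨e0, e1, -, hrk, -⟩ := g2_tables
  -- the graph automorphism is trivial
  have hπ : ∀ i : Fin chevG2.rank, π i = i := by
    by_contra hne
    push Not at hne
    obtain ⟨i, hi⟩ := hne
    have h01 : ∀ i : Fin chevG2.rank, i.val = 0 ∨ i.val = 1 := fun i => by have := i.isLt; omega
    let i0 : Fin chevG2.rank := ⟨0, by omega⟩
    let i1 : Fin chevG2.rank := ⟨1, by omega⟩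
    have hp0 : π i0 = i1 ∧ π i1 = i0 := by
      have a0 := h01 (π i0)
      have a1 := h01 (π i1)
      have ne : (π i0).val ≠ (π i1).val := fun e => by
        have := congrArg Fin.val (π.injective (Fin.ext e)); simp [i0, i1] at this
      rcases h01 i with hi0 | hi0
      · obtain rfl : i = i0 := Fin.ext hi0
        have : (π i0).val ≠ 0 := fun e => hi (Fin.ext e)
        exact ⟨Fin.ext (by simp only [i1]; omega), Fin.ext (by simp only [i0]; omega)⟩
      · obtain rfl : i = i1 := Fin.ext hi0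
        have : (π i1).val ≠ 1 := fun e => hi (Fin.ext e)
        exact ⟨Fin.ext (by simp only [i1]; omega), Fin.ext (by simp only [i0]; omega)⟩
    have key : ∀ (i : Fin chevG2.rank),
        g (gx hG (chevG2.simple i) 1) = gx hG (chevG2.simple (π i)) 1 ∧
        g (gx hG (chevG2.neg (chevG2.simple i)) 1) = gx hG (chevG2.neg (chevG2.simple (π i))) 1 := fun i => by
      constructor <;> refine Subtype.ext (Units.ext ?_)
      · rw [(hg _ i 1).1 (coe_xg hG _ _), one_pow]; exact (coe_xg hG _ _).symm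
      · rw [(hg _ i 1).2 (coe_xg hG _ _), one_pow]; exact (coe_xg hG _ _).symm
    refine g2_no_swap g.toMonoidHom g.injective ?_ ?_ ?_ ?_
    · have := (key i0).1; rw [hp0.1] at this; exact this
    · have := (key i0).2; rw [hp0.1] at this; exact this
    · have := (key i1).1; rw [hp0.2] at this; exact this
    · have := (key i1).2; rw [hp0.2] at this; exact this
  have hgid : g.toMonoidHom = MonoidHom.id _ := by
    refine hom_ext_simple hG rootsG2 fun i hi t => ?_
    have hexp : chevG2.graphExp (ringChar F) (⟨i, hi⟩ : Fin chevG2.rank) (π ⟨i, hi⟩) = 1 := by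
      rw [hπ]; simp [ChevalleyDatum.graphExp]
    constructor <;> refine Subtype.ext (Units.ext ?_)
    · refine ((hg _ ⟨i, hi⟩ t).1 (coe_xg hG _ _)).trans ?_
      rw [hexp, hπ, pow_one]; exact (coe_xg hG _ _).symm
    · refine ((hg _ ⟨i, hi⟩ t).2 (coe_xg hG _ _)).trans ?_
      rw [hexp, hπ, pow_one]; exact (coe_xg hG _ _).symm
  refine ⟨x, f.trans (g.trans dg), fun y => he y, fun r hr t => ⟨(χ r : F) * τ t, ?_⟩⟩
  have e1 : f (gx hG r t) = gx hG r (τ t) :=
    Subtype.ext (Units.ext ((hf _ r t hr (coe_xg hG _ _)).trans (coe_xg hG _ _).symm))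
  show dg (g (f _)) = _
  rw [e1, show g (gx hG r (τ t)) = gx hG r (τ t) from DFunLike.congr_fun hgid _]
  refine Subtype.ext (Units.ext ?_)
  rw [hd]
  show _ * (xg hG F r (τ t) : GL chevG2.Idx F).1 * _ = (xg hG F r ((χ r : F) * τ t) : GL chevG2.Idx F).1
  rw [coe_xg, coe_xg, charDiag_conj hG hχ hr, mul_assoc, charDiag_mul]
  simp [charDiag_one]

/-- No automorphism fixing `U` exchanges the minimal parabolics of `G₂(2^e)`. -/
theorem g2_asym [CharP F 2] (hUp : IsPGroup 2 ↥(chevRGD hG rootsG2 F).Upos)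
    (hidx : ¬ 2 ∣ ((chevRGD hG rootsG2 F).Upos.subgroupOf (chevRGD hG rootsG2 F).G).index)
    [Fact (Nat.Prime 2)] [Finite ↥(chevRGD hG rootsG2 F).G] :
    (Chamber.ofRGD (chevRGD hG rootsG2 F) hUp hidx).Asym := by
  classical
  set R := chevRGD hG rootsG2 F
  set C := Chamber.ofRGD R hUp hidx
  obtain ⟨-, -, -, hrk, -⟩ := g2_tables
  let i0 : Fin chevG2.rank := ⟨0, by omega⟩
  let i1 : Fin chevG2.rank := ⟨1, by omega⟩
  refine ⟨i0, i1, fun σ hσU hσP => ?_⟩
  let ec : ↥R.G ≃* ↥(chevG2.group F) := MulEquiv.subgroupCongr (chev_G hG rootsG2)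
  obtain ⟨x, h, hx, hh⟩ := g2_aut_split ((ec.symm.trans σ).trans ec)
  set x' : ↥R.G := ec.symm x with hx'
  have hσ : ∀ y : ↥R.G, σ y = x' * ec.symm (h (ec y)) * x'⁻¹ := fun y => by
    have := congrArg ec.symm (hx (ec y))
    simpa [hx'] using this
  let η : MulAut ↥R.G := (ec.trans h).trans ec.symm
  have hηr : ∀ r : Fin chevG2.nroots, ∀ y : ↥R.G, (y : GL chevG2.Idx F) ∈ R.U r →
      (η y : GL chevG2.Idx F) ∈ R.U r := by
    intro r y hy
    obtain ⟨t, ht⟩ := (mem_rootSubgroup hG _).1 hy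
    obtain ⟨u, hu⟩ := hh r.val r.isLt t
    rw [show η y = ec.symm (h (ec y)) from rfl, show ec y = gx hG r.val t from Subtype.ext ht, hu]
    exact xg_mem_rootSubgroup hG _ _
  have hηU : C.U.map η.toMonoidHom = C.U := by
    refine eq_of_le_of_card_ge ?_ (card_map_of_injective η.injective).ge
    rintro _ ⟨y, hy, rfl⟩
    have hmem : (y : GL chevG2.Idx F) ∈ R.Upos := hy
    have hle : R.Upos ≤ ((R.Upos.subgroupOf R.G).comap η.toMonoidHom).map R.G.subtype :=
      R.span_le fun r hr z hz => ⟨⟨z, R.B_le_G (R.Upos_le_B (R.U_le_Upos hr hz))⟩,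
        R.U_le_Upos hr (hηr r _ hz), rfl⟩
    obtain ⟨z, hz, e⟩ := hle hmem
    rw [← Subtype.ext e]
    exact hz
  have hσ' : ∀ S : Subgroup ↥R.G, S.map σ.toMonoidHom = (S.map η.toMonoidHom).map (MulAut.conj x').toMonoidHom := by
    intro S
    rw [Subgroup.map_map]
    congr 1
    exact MonoidHom.ext fun y => hσ y
  have hxB : x' ∈ C.B := by
    rw [← C.normalizer_eq]
    refine mem_normalizer_of_map_le fun u hu => ?_
    rw [hσ', hηU] at hσU
    rw [← hσU]
    exact ⟨u, hu, rfl⟩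
  have hxP : ∀ k, (C.P k).map (MulAut.conj x').toMonoidHom = C.P k := fun k => by
    refine eq_of_le_of_card_ge ?_ (card_map_of_injective (MulAut.conj x').injective).ge
    rintro _ ⟨y, hy, rfl⟩
    exact mul_mem (mul_mem (C.B_le k hxB) hy) (inv_mem (C.B_le k hxB))
  have hP : (C.P i0).map η.toMonoidHom = C.P i1 := by
    refine map_injective (f := (MulAut.conj x').toMonoidHom) (MulAut.conj x').injective ?_
    rw [← hσ', hσP]
    exact (hxP i1).symm
  -- a negative simple root element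
  set r : Fin chevG2.nroots := R.neg (R.simple i0)
  have hrneg : ¬ R.pos r := by rw [R.pos_neg]; exact not_not.2 (R.pos_simple i0)
  obtain ⟨y, hy, hy1⟩ : ∃ y ∈ R.U r, y ≠ 1 := by
    obtain ⟨y, hy⟩ := (R.U r).ne_bot_iff_exists_ne_one.1 (R.U_ne_bot r)
    exact ⟨y.1, y.2, fun e => hy (Subtype.ext e)⟩
  have hcell : R.U r ≤ R.cellSubgroup i0 := fun z hz => by
    have hB : R.B ≤ R.cellSubgroup i0 := fun w hw => Or.inl hw
    have hn : R.n i0 ∈ R.cellSubgroup i0 :=
      Or.inr (DoubleCoset.mem_doubleCoset.2 ⟨1, one_mem R.B, 1, one_mem R.B, by group⟩)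
    have h2 : (R.n i0)⁻¹ * z * R.n i0 ∈ R.U (R.simple i0) := by
      have h1 := R.n_conj_U i0 _ z hz
      rw [R.w_neg, R.w_simple, R.neg_neg] at h1
      simpa [mul_assoc] using R.H_conj_U _ (inv_mem (R.n_sq i0)) _ _ h1
    have := mul_mem (mul_mem hn (hB (R.Upos_le_B (R.U_le_Upos (R.pos_simple i0) h2)))) (inv_mem hn)
    simpa [mul_assoc] using this
  have hUG : R.U r ≤ R.G := fun z hz => by
    rcases hcell hz with hb | hb
    · exact R.B_le_G hb
    · obtain ⟨b, hb1, b', hb', rfl⟩ := DoubleCoset.mem_doubleCoset.1 hb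
      exact mul_mem (mul_mem (R.B_le_G hb1) (R.n_mem_G i0)) (R.B_le_G hb')
  have hyP : ∀ z : ↥R.G, (z : GL chevG2.Idx F) ∈ R.U r → z ∈ C.P i0 := fun z hz => by
    show z ∈ R.bnPair.parabolic {R.nG i0}
    rw [parabolic_nG]
    exact hcell hz
  have h1 : η ⟨y, hUG hy⟩ ∈ C.P i0 ⊓ C.P i1 :=
    ⟨hyP _ (hηr r _ hy), hP ▸ ⟨⟨y, hUG hy⟩, hyP _ hy, rfl⟩⟩
  have h2 : C.P i0 ⊓ C.P i1 = C.B := by
    refine le_antisymm ?_ (le_inf (C.B_le _) (C.B_le _))
    by_contra hne
    have := C.eq_of_between (lt_of_le_not_ge (le_inf (C.B_le i0) (C.B_le i1)) hne) inf_le_left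
    have := C.eq_of_le (inf_eq_left.1 this)
    exact zero_ne_one (congrArg Fin.val this)
  rw [h2] at h1
  have h3 : (η ⟨y, hUG hy⟩ : GL chevG2.Idx F) = 1 :=
    mem_bot.1 (R.B_inf_V.le ⟨h1, R.U_le_Vneg hrneg (hηr r _ hy)⟩)
  have h4 : (⟨y, hUG hy⟩ : ↥R.G) = 1 := η.injective ((Subtype.ext h3).trans (map_one η).symm)
  exact hy1 (congrArg Subtype.val h4)

theorem good_g2 {p : ℕ} [Fact p.Prime] [CharP F p] : LieMinimal.Good p ↥(chevG2.group F) := by
  by_cases hp : p = 2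
  · subst hp
    haveI : Finite ↥(chevRGD hG rootsG2 F).G := inferInstance
    obtain ⟨hUp, hidx⟩ := chev_sylow hG rootsG2 F (p := 2)
    set C := Chamber.ofRGD (chevRGD hG rootsG2 F) hUp hidx
    let ec : ↥(chevRGD hG rootsG2 F).G ≃* ↥(chevG2.group F) := MulEquiv.subgroupCongr (chev_G hG rootsG2)
    have hker : ec.toMonoidHom.ker ≤ C.B := by
      rw [(MonoidHom.ker_eq_bot_iff _).2 ec.injective]; exact bot_le
    have hr : C.r = 2 := rankG2
    refine ⟨C.map ec.toMonoidHom ec.surjective hker, fun hT => ?_, fun h => ?_, fun h => ?_,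
      fun _ _ => Or.inr (C.asym_map_equiv ec hker (g2_asym hUp hidx))⟩
    · have h := (C.map ec.toMonoidHom ec.surjective hker).lt ⟨0, show 0 < C.r by omega⟩
      rw [hT] at h
      exact not_top_lt h
    · exact absurd (h.symm.trans hr) (by norm_num)
    · exact absurd (show 3 ≤ C.r from h) (by omega)
  · exact good_chev hG rootsG2 F (by rw [rankG2]) (fun h => absurd h (by rw [rankG2]; norm_num)) fun _ => hp

end G2

section Twisted

open Cfsg.Agent.TwistE6D4

variable {K : Type*} [Field K] [Fintype K] {p : ℕ} [Fact p.Prime] [CharP K p]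

theorem exists_prime_pow {q e : ℕ} (he : e ≠ 0) (hK : Fintype.card K = q ^ e) : ∃ f, 0 < f ∧ q = p ^ f := by
  obtain ⟨n, -, hn⟩ := FiniteField.card K p
  rw [hK] at hn
  obtain ⟨f, -, rfl⟩ := (Nat.dvd_prime_pow (Fact.out : p.Prime)).1 (hn ▸ dvd_pow_self q he)
  refine ⟨f, Nat.pos_of_ne_zero fun h => ?_, rfl⟩
  subst h
  rw [pow_zero, one_pow] at hn
  exact (Fact.out : p.Prime).not_dvd_one (hn ▸ dvd_pow_self p n.ne_zero)

theorem not_dvd_pow_add {q n : ℕ} (hq : p ∣ q) (hn : n ≠ 0) : ¬ p ∣ q ^ n + 1 := fun h =>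
  (Fact.out : p.Prime).not_dvd_one ((Nat.dvd_add_right (dvd_pow hq hn)).1 h)

theorem not_dvd_pow_sub {q n : ℕ} (hq : p ∣ q) (h0 : 1 ≤ q) (hn : n ≠ 0) : ¬ p ∣ q ^ n - 1 := fun h => by
  have h1 : 1 ≤ q ^ n := Nat.one_le_pow _ _ h0
  have := Nat.dvd_sub (dvd_pow hq hn : p ∣ q ^ n) h
  rw [Nat.sub_sub_self h1] at this
  exact (Fact.out : p.Prime).not_dvd_one this

theorem ctx_sylow {D : ChevalleyDatum} (C : TwistE6D4.Ctx D K) {k c n : ℕ} (hU : Nat.card C.rgd.Upos = p ^ k)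
    (hG : c * Nat.card C.G0 = p ^ k * n) (hn : ¬ p ∣ n) :
    IsPGroup p ↥C.rgd.Upos ∧ ¬ p ∣ (C.rgd.Upos.subgroupOf C.rgd.G).index := by
  refine ⟨IsPGroup.of_card hU, ?_⟩
  have h1 := Subgroup.card_mul_index (C.rgd.Upos.subgroupOf C.rgd.G)
  have hle : C.rgd.Upos ≤ C.rgd.G := C.rgd.Upos_le_B.trans C.rgd.B_le_G
  have h2 : Nat.card ↥C.rgd.G = Nat.card ↥C.G0 := by rw [C.rgd_G]
  rw [Nat.card_congr (Subgroup.subgroupOfEquivOfLe hle).toEquiv, hU, h2] at h1
  rw [← h1, mul_left_comm] at hG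
  exact fun hd => hn (Nat.eq_of_mul_eq_mul_left (pow_pos (Fact.out : p.Prime).pos k) hG ▸ hd.mul_left c)

theorem e6_branch : ∀ j : Fin 4, j.val ≠ 0 →
    e6Twist.rho^[0] (TwistE6D4.wF e6Twist (e6Node 0) (chevE6.simple (e6Node j).val)) ≠ chevE6.simple (e6Node j).val →
    j.val = 1 := by decide +kernel

theorem e6_nodes : TwistE6D4.wF e6Twist (e6Node 1) (chevE6.simple (e6Node 0).val) ≠ chevE6.simple (e6Node 0).val ∧
    TwistE6D4.wF e6Twist (e6Node 1) (chevE6.simple (e6Node 2).val) ≠ chevE6.simple (e6Node 2).val := by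
  decide +kernel

theorem good_twistedE6 {q : ℕ} (hq : IsPrimePow q) (hK : Fintype.card K = q ^ 2) : LieMinimal.Good p ↥(twistedE6 K q) := by
  obtain ⟨φ, e, h⟩ := TwistE6D4.exists_ctxE6 DataE6.good hq hK
  have hcard := TwistE6D4.card_twistedE6 DataE6.good hq hK
  obtain ⟨f, hf0, hf⟩ := exists_prime_pow two_ne_zero hK (p := p)
  have h2 : p ∣ q := hf ▸ dvd_pow_self p hf0.ne'
  have h1 : 1 ≤ q := by have := hq.two_le; omega
  rw [e] at hcard ⊢
  set C := TwistE6D4.ctxE6 DataE6.good φ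
  have hS := ctx_sylow C (k := f * 36)
    (n := (q ^ 2 - 1) * (q ^ 5 + 1) * (q ^ 6 - 1) * (q ^ 8 - 1) * (q ^ 9 + 1) * (q ^ 12 - 1))
    (by rw [TwistE6D4.Ctx.card_Upos h, pow_mul, ← hf]; exact congrArg (q ^ ·) TwistE6D4.e6_U_exp)
    (by rw [hcard, pow_mul, ← hf]; ring) (by
      simp only [(Fact.out : p.Prime).dvd_mul]
      rintro (((((h | h) | h) | h) | h) | h)
      exacts [not_dvd_pow_sub h2 h1 (by norm_num) h, not_dvd_pow_add h2 (by norm_num) h,
        not_dvd_pow_sub h2 h1 (by norm_num) h, not_dvd_pow_sub h2 h1 (by norm_num) h,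
        not_dvd_pow_add h2 (by norm_num) h, not_dvd_pow_sub h2 h1 (by norm_num) h])
  haveI : Finite ↥C.rgd.G := inferInstance
  refine good_of_rgd C.rgd hS.1 hS.2 (by norm_num) (MulEquiv.subgroupCongr C.rgd_G).toMonoidHom
    (MulEquiv.surjective _) (fun x hx => ?_) (fun h => absurd h (by norm_num)) (fun _ => ?_)
    fun h => absurd h (by norm_num)
  · obtain rfl : x = 1 := (MulEquiv.subgroupCongr C.rgd_G).injective (hx.trans (map_one _).symm)
    exact one_mem _
  · have key : ∀ c a : Fin 4, C.rgd.w c (C.rgd.simple a) = C.rgd.simple a →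
        C.repOf (TwistE6D4.wF e6Twist (e6Node c) (chevE6.simple (e6Node a).val)) = chevE6.simple (e6Node a).val :=
      fun c a h => congrArg Subtype.val h
    refine ⟨(0 : Fin 4), (1 : Fin 4), (0 : Fin 4), (2 : Fin 4), (1 : Fin 4),
      fun e => absurd (congrArg Fin.val e) (by norm_num),
      fun e => absurd (congrArg Fin.val e) (by norm_num),
      fun e => absurd (congrArg Fin.val e) (by norm_num),
      fun e => ?_, fun e => ?_, fun j hj hn => ?_⟩
    · exact e6_rep_ne 1 0 (Or.inl ⟨rfl, rfl⟩) (key _ _ e)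
    · exact e6_rep_ne 1 2 (Or.inr ⟨rfl, rfl⟩) (key _ _ e)
    · by_contra hne
      refine hn (Subtype.ext ?_)
      show C.repOf (TwistE6D4.wF e6Twist (e6Node 0) (chevE6.simple (e6Node j).val)) = chevE6.simple (e6Node j).val
      have hb : TwistE6D4.wF e6Twist (e6Node 0) (chevE6.simple (e6Node j).val) = chevE6.simple (e6Node j).val := by
        by_contra hw
        exact hne (Fin.ext (e6_branch j (fun e => hj (Fin.ext e)) hw))
      rw [hb]
      exact C.repOf_self (C.hR.rep_simple j)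
where
  e6_rep_ne {φ : K →+* K} (c a : Fin 4) (h : (c = 1 ∧ a = 0) ∨ (c = 1 ∧ a = 2)) :
      (TwistE6D4.ctxE6 DataE6.good φ).repOf (TwistE6D4.wF e6Twist (e6Node c) (chevE6.simple (e6Node a).val)) ≠
        chevE6.simple (e6Node a).val := by
    intro e
    have hspec := (TwistE6D4.ctxE6 DataE6.good φ).repOf_spec
      ((TwistE6D4.ctxE6 DataE6.good φ).wF_lt c ((TwistE6D4.ctxE6 DataE6.good φ).p_lt a))
    replace hspec := hspec.2
    change _ ∈ (TwistE6D4.ctxE6 DataE6.good φ).orbS _ at hspec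
    rw [show (TwistE6D4.ctxE6 DataE6.good φ).repOf _ = _ from e] at hspec
    obtain ⟨k, hk, hk'⟩ := hspec
    refine e6_orb c a h k ?_ hk'
    replace hk : k < e6Twist.len (chevE6.simple (e6Node a).val) := hk
    rw [e6_len] at hk
    exact lt_of_lt_of_le hk (e6_le a)
  e6_le : ∀ a : Fin 4, [1, 1, 2, 2].getD a.val 0 ≤ 2 := by decide
  e6_orb : ∀ c a : Fin 4, (c = 1 ∧ a = 0) ∨ (c = 1 ∧ a = 2) → ∀ k, k < 2 →
      e6Twist.rho^[k] (chevE6.simple (e6Node a).val) ≠
        TwistE6D4.wF e6Twist (e6Node c) (chevE6.simple (e6Node a).val) := by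
    decide +kernel

theorem good_twistedD4 {q : ℕ} (hq : IsPrimePow q) (hK : Fintype.card K = q ^ 3) : LieMinimal.Good p ↥(twistedD4 K q) := by
  obtain ⟨φ, e, h⟩ := TwistE6D4.exists_ctxD4 DataD4.good hq hK
  have hcard := TwistE6D4.card_twistedD4 DataD4.good hq hK
  obtain ⟨f, hf0, hf⟩ := exists_prime_pow three_ne_zero hK (p := p)
  have h2 : p ∣ q := hf ▸ dvd_pow_self p hf0.ne'
  have h1 : 1 ≤ q := by have := hq.two_le; omega
  rw [e] at hcard ⊢
  set C := TwistE6D4.ctxD4 DataD4.good φ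
  have hS := ctx_sylow C (k := f * 12) (c := 1) (n := (q ^ 2 - 1) * (q ^ 6 - 1) * (q ^ 8 + q ^ 4 + 1))
    (by rw [TwistE6D4.Ctx.card_Upos h, pow_mul, ← hf]; exact congrArg (q ^ ·) TwistE6D4.d4_U_exp)
    (by rw [hcard, pow_mul, ← hf]; ring) (by
      simp only [(Fact.out : p.Prime).dvd_mul]
      rintro ((h | h) | h)
      · exact not_dvd_pow_sub h2 h1 (by norm_num) h
      · exact not_dvd_pow_sub h2 h1 (by norm_num) h
      · exact (Fact.out : p.Prime).not_dvd_one
          ((Nat.dvd_add_right (dvd_add (dvd_pow h2 (by norm_num)) (dvd_pow h2 (by norm_num)))).1 h))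
  haveI : Finite ↥C.rgd.G := inferInstance
  refine good_of_rgd C.rgd hS.1 hS.2 (by norm_num) (MulEquiv.subgroupCongr C.rgd_G).toMonoidHom
    (MulEquiv.surjective _) (fun x hx => ?_) (fun h => absurd h (by norm_num)) (fun h => absurd h (by norm_num))
    fun _ _ => Or.inr ⟨(0 : Fin 2), (1 : Fin 2), ?_⟩
  · obtain rfl : x = 1 := (MulEquiv.subgroupCongr C.rgd_G).injective (hx.trans (map_one _).symm)
    exact one_mem _
  · show Nat.card (C.Uo (C.p 0)) ≠ Nat.card (C.Uo (C.p 1))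
    rw [TwistE6D4.Ctx.card_Uo_simple h, TwistE6D4.Ctx.card_Uo_simple h]
    intro e'
    have := Nat.pow_right_injective hq.two_le e'
    replace this : d4Twist.len (chevD4.simple (d4Node (0 : Fin 2)).val) =
        d4Twist.len (chevD4.simple (d4Node (1 : Fin 2)).val) := this
    rw [TwistE6D4.d4_len, TwistE6D4.d4_len] at this
    simp at this

end Twisted

section F4

open Cfsg.Agent.Twisted Cfsg.Agent.Twisted.F4

variable {K : Type*} [Field K] [Fintype K] [CharP K 2] {m : ℕ}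

theorem good_twistedF4 [Fact (Nat.Prime 2)] (hK : Fintype.card K = 2 ^ (2 * m + 1)) :
    LieMinimal.Good 2 ↥(twistedF4 K (2 ^ m)) := by
  set R := rgdF4' hK (m := m)
  haveI : Finite ↥R.G := inferInstance
  set q := 2 ^ (2 * m + 1) with hq
  have h2 : 2 ∣ q := dvd_pow_self 2 (by omega)
  have h1 : 1 ≤ q := Nat.one_le_two_pow
  have hU : Nat.card R.Upos = 2 ^ ((2 * m + 1) * 12) := by rw [Twisted.F4.card_Upos hK, pow_mul]
  have hidx : ¬ 2 ∣ (R.Upos.subgroupOf R.G).index := by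
    have h := Subgroup.card_mul_index (R.Upos.subgroupOf R.G)
    have hG : Nat.card ↥R.G = Nat.card ↥(twistedF4 K (2 ^ m)) := by rw [twisted_eq hK]
    rw [Nat.card_congr (Subgroup.subgroupOfEquivOfLe (R.Upos_le_B.trans R.B_le_G)).toEquiv, hU, hG,
      card_twistedF4 hK, pow_mul, mul_assoc, mul_assoc, mul_assoc] at h
    rw [Nat.eq_of_mul_eq_mul_left (pow_pos (two_pos.trans_le (Nat.le_self_pow (by omega) 2)) 12) h]
    simp only [Nat.prime_two.dvd_mul]
    rintro (h | h | h | h)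
    · exact not_dvd_pow_sub (p := 2) (n := 1) h2 h1 one_ne_zero (by rwa [pow_one])
    · exact not_dvd_pow_add (p := 2) h2 (by norm_num) h
    · exact not_dvd_pow_sub (p := 2) h2 h1 (by norm_num) h
    · exact not_dvd_pow_add (p := 2) h2 (by norm_num) h
  refine good_of_rgd R (IsPGroup.of_card hU) hidx (by norm_num)
    (MulEquiv.subgroupCongr (twisted_eq hK).symm).toMonoidHom (MulEquiv.surjective _) (fun x hx => ?_)
    (fun h => absurd h (by norm_num)) (fun h => absurd h (by norm_num))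
    fun _ _ => Or.inr ⟨(0 : Fin 2), (1 : Fin 2), ?_⟩
  · obtain rfl : x = 1 := (MulEquiv.subgroupCongr (twisted_eq hK).symm).injective (hx.trans (map_one _).symm)
    exact one_mem _
  · show Nat.card ↥(X K m (sc 0)) ≠ Nat.card ↥(X K m (sc 1))
    rw [show sc 0 = 0 from rfl, show sc 1 = 7 from rfl, card_X0 hK, card_X7 hK]
    intro e
    have h2q : 2 ≤ q := Nat.le_self_pow (by omega) 2
    nlinarith

end F4

end Cfsg.Agent.LieMinimal
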