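import Cfsg.Agent.Lib.LieMinimal.Small
import Cfsg.Agent.Lib.TitsDegree.Para

/-!
# Good chambers of derived groups of index two with trivial torus and rank two

* `good_derived`.
-/

set_option autoImplicit false
set_option linter.unusedSectionVars false

namespace Cfsg.Agent.LieMinimal

open Subgroup Cfsg.Agent.RGD Cfsg.Agent.Seitz Cfsg.Agent.TitsDegree

variable {Γ : Type*} [Group Γ] [Finite Γ] {Φ I : Type*} (R : RootData Γ Φ I)

/-- A minimal parabolic inside the derived group. -/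
def half (T : Subgroup Γ) (j : I) : Subgroup ↥T := (para R {j}).subgroupOf T

variable {T : Subgroup Γ}

theorem not_Udel {j : I} {x : Γ} (h1 : x ∈ R.U (R.simple j)) (h2 : R.n j * x * (R.n j)⁻¹ ∈ R.Upos) : x = 1 := by
  refine conj_eq_one_iff.1 (Subgroup.mem_bot.1 (R.B_inf_V.le
    ⟨R.Upos_le_B h2, R.U_le_Vneg ?_ (R.conj_n_simple h1)⟩))
  rw [R.pos_neg]; exact not_not.2 (R.pos_simple j)

set_option maxHeartbeats 1600000 in
theorem good_derived (hH : R.H = ⊥) (hTG : T ≤ R.G) (hidx : T.relIndex R.G = 2) (ix : Fin 2 → I)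
    (hI : ∀ j, j = ix 0 ∨ j = ix 1) (hout : ∀ j, ¬ R.Udel j ≤ T) (hP : IsPGroup 2 ↥R.Upos)
    (hodd : ¬ 2 ∣ R.Upos.relIndex R.G)
    (hpr : ∀ i, (1 + Nat.card ↥(R.U (R.simple (ix i)))).Prime)
    (hbig : ∀ i, Nat.card ↥R.Upos * (1 + Nat.card ↥(R.U (R.simple (ix i)))) < Nat.card ↥R.G)
    (hover : ∀ M : Subgroup Γ, M ≤ T → R.Upos ⊓ T < M →
      ∃ i, ∃ g ∈ M, g ∈ para R {ix i} ∧ g ∉ R.Upos)
    (hsym : Exc ↥T ∨ ∀ σ : MulAut ↥T, (half R T (ix 0)).map σ.toMonoidHom ≠ half R T (ix 1)) :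
    Good 2 ↥T := by
  classical
  have hUG : R.Upos ≤ R.G := R.Upos_le_B.trans R.B_le_G
  have hBU : R.B = R.Upos := by rw [RootData.B, hH, sup_bot_eq]
  have hUpara : ∀ j, R.Upos ≤ para R {j} := fun j => R.Upos_le_B.trans le_sup_left
  have hparaG : ∀ j, para R {j} ≤ R.G := fun j =>
    sup_le R.B_le_G ((Subgroup.closure_le _).2 (by rintro _ ⟨i, -, rfl⟩; exact R.n_mem_G i))
  have hxor : ∀ a ∈ R.G, ∀ b ∈ R.G, (a * b ∈ T ↔ (a ∈ T ↔ b ∈ T)) := fun a ha b hb =>
    Subgroup.mul_mem_iff_of_index_two (H := T.subgroupOf R.G) hidx (a := ⟨a, ha⟩) (b := ⟨b, hb⟩)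
  have hTn : ∀ g ∈ R.G, ∀ t ∈ T, g * t * g⁻¹ ∈ T := fun g hg t ht => by
    rw [hxor _ (mul_mem hg (hTG ht)) _ (inv_mem hg), hxor _ hg _ (hTG ht), inv_mem_iff]
    simp [ht]
  obtain ⟨u₀, hu₀, hu₀T⟩ := SetLike.not_le_iff_exists.1 fun h => hout (ix 0) ((R.Udel_le_Upos (ix 0)).trans h)
  have hhalf : ∀ A : Subgroup Γ, R.Upos ≤ A → A ≤ R.G → Nat.card A = 2 * Nat.card ↥(A.subgroupOf T) := by
    intro A hA hAG
    have h2 : T.relIndex A = 2 := by
      rw [Subgroup.relIndex, Subgroup.index_eq_two_iff]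
      refine ⟨⟨u₀, hA hu₀⟩, fun b => ?_⟩
      simp only [Subgroup.mem_subgroupOf, Subgroup.coe_mul, hxor _ (hAG b.2) _ (hUG hu₀), hu₀T]
      by_cases hb : (b : Γ) ∈ T <;> simp [hb, Xor]
    have h3 := Subgroup.card_mul_index (T.subgroupOf A)
    rw [show (T.subgroupOf A).index = 2 from h2, ← Subgroup.inf_subgroupOf_left T A,
      Nat.card_congr (Subgroup.subgroupOfEquivOfLe inf_le_left).toEquiv] at h3
    rw [← Subgroup.inf_subgroupOf_right A T, Nat.card_congr (Subgroup.subgroupOfEquivOfLe inf_le_right).toEquiv]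
    omega
  set S : Subgroup ↥T := R.Upos.subgroupOf T
  have hle : ∀ i, S ≤ half R T (ix i) := fun i x hx => hUpara (ix i) hx
  have hcP : ∀ i, Nat.card ↥(half R T (ix i)) = Nat.card ↥S * (1 + Nat.card ↥(R.U (R.simple (ix i)))) := by
    intro i
    have h := card_para_single R hH (ix i)
    rw [hhalf _ (hUpara _) (hparaG _), hhalf _ le_rfl hUG, mul_assoc] at h
    exact Nat.eq_of_mul_eq_mul_left (by norm_num) h
  have hrel : ∀ i, (S.relIndex (half R T (ix i))).Prime := fun i => by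
    have h := (S.subgroupOf (half R T (ix i))).card_mul_index
    rw [Nat.card_congr (Subgroup.subgroupOfEquivOfLe (hle i)).toEquiv, hcP i] at h
    rw [relIndex, Nat.eq_of_mul_eq_mul_left Nat.card_pos h]
    exact hpr i
  have hcT : Nat.card ↥R.G = 2 * Nat.card ↥T := by
    have h := (T.subgroupOf R.G).card_mul_index
    rw [Nat.card_congr (Subgroup.subgroupOfEquivOfLe hTG).toEquiv, show (T.subgroupOf R.G).index = 2 from hidx] at h
    omega
  -- the reflection does not normalise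
  have hnn : ∀ j : I, ¬ ∀ s ∈ R.Upos ⊓ T, R.n j * s * (R.n j)⁻¹ ∈ R.Upos := by
    intro j h
    obtain ⟨u, hu, huT⟩ := SetLike.not_le_iff_exists.1 (hout j)
    have hsub : ∀ s ∈ R.Upos ⊓ T, s ∈ R.Udel j := by
      intro s hs
      obtain ⟨k, hk, a, ha, rfl⟩ := R.exists_Upos (i := j) hs.1
      have h1 : R.n j * a * (R.n j)⁻¹ ∈ R.Upos := by
        rw [show R.n j * a * (R.n j)⁻¹ = (R.n j * k * (R.n j)⁻¹)⁻¹ * (R.n j * (k * a) * (R.n j)⁻¹) by group]
        exact mul_mem (inv_mem (R.Udel_le_Upos j (R.n_conj_Udel j k hk))) (h _ hs)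
      rw [not_Udel R ha h1, mul_one]
      exact hk
    obtain ⟨⟨a, ha⟩, ha1⟩ := Subgroup.ne_bot_iff_exists_ne_one.1 (R.U_ne_bot (R.simple j))
    have haU := R.U_le_Upos (R.pos_simple j) ha
    have haD : a ∈ R.Udel j := by
      by_cases haT : a ∈ T
      · exact hsub a ⟨haU, haT⟩
      · have hu' := R.Udel_le_Upos j hu
        have h1 := hsub (a * u) (Subgroup.mem_inf.2 ⟨mul_mem haU hu', (hxor _ (hUG haU) _ (hUG hu')).2 (iff_of_false haT huT)⟩)
        simpa using mul_mem h1 (inv_mem hu)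
    exact ha1 (Subtype.ext (not_Udel R ha (R.Udel_le_Upos j (R.n_conj_Udel j a haD))))
  refine good_of_two S (fun i => half R T (ix i))
    ((hP.to_le (inf_le_right : T ⊓ R.Upos ≤ R.Upos)).of_equiv
      (Subgroup.subgroupOfEquivOfLe (inf_le_left : T ⊓ R.Upos ≤ T)).symm |>.of_equiv
        (MulEquiv.subgroupCongr (Subgroup.inf_subgroupOf_left R.Upos T))) ?_ hle ?_ ?_ ?_ ?_
    (hsym.imp_right fun h => ⟨(0 : Fin 2), (1 : Fin 2), fun σ _ => h σ⟩)
  · intro hd
    have h1 := S.card_mul_index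
    have h2 := (R.Upos.subgroupOf R.G).card_mul_index
    rw [Nat.card_congr (Subgroup.subgroupOfEquivOfLe hUG).toEquiv, hcT, ← h1, hhalf _ le_rfl hUG, mul_assoc] at h2
    have h3 := Nat.eq_of_mul_eq_mul_left Nat.card_pos (Nat.eq_of_mul_eq_mul_left two_pos h2)
    exact hodd (show 2 ∣ (R.Upos.subgroupOf R.G).index by rw [h3]; exact hd)
  · intro i hnorm
    refine hnn (ix i) fun s hs => ?_
    have key : ∀ g ∈ para R {ix i}, g ∈ T → g * s * g⁻¹ ∈ R.Upos := fun g hg hgT =>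
      (mem_normalizer_iff.1 (hnorm (show (⟨g, hgT⟩ : ↥T) ∈ half R T (ix i) from hg)) ⟨s, hs.2⟩).1 hs.1
    by_cases hnT : R.n (ix i) ∈ T
    · exact key _ (n_mem_para R rfl) hnT
    · have h1 : u₀ * R.n (ix i) ∈ T := by
        rw [hxor _ (hUG hu₀) _ (R.n_mem_G _)]
        simp [hnT, hu₀T]
      have h2 := key _ (mul_mem (hUpara _ hu₀) (n_mem_para R rfl)) h1
      have h3 := mul_mem (mul_mem (inv_mem hu₀) h2) hu₀
      rwa [show u₀⁻¹ * (u₀ * R.n (ix i) * s * (u₀ * R.n (ix i))⁻¹) * u₀ = R.n (ix i) * s * (R.n (ix i))⁻¹ by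
        group] at h3
  · intro M hM
    have hlt : R.Upos ⊓ T < M.map T.subtype := by
      have h1 : S.map T.subtype = R.Upos ⊓ T := Subgroup.subgroupOf_map_subtype _ _
      rw [← h1]
      exact (map_lt_map_iff_of_injective T.subtype_injective).2 hM
    obtain ⟨i, g, ⟨g', hg', rfl⟩, hgP, hgU⟩ := hover _ (Subgroup.map_subtype_le _) hlt
    exact ⟨i, le_of_prime_index (hle i) (hrel i) hM.le hgP hg' hgU⟩
  · intro i h
    have h1 := hcP i
    rw [h, Subgroup.card_top] at h1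
    have h2 := hbig i
    rw [hcT, hhalf _ le_rfl hUG, h1, mul_assoc] at h2
    exact lt_irrefl _ h2
  · -- generation
    set M' : Subgroup Γ := (half R T (ix 0) ⊔ half R T (ix 1)).map T.subtype with hM'
    have hPM : ∀ j, para R {j} ⊓ T ≤ M' := fun j x hx => by
      rcases hI j with rfl | rfl
      · exact ⟨⟨x, hx.2⟩, Subgroup.mem_sup_left hx.1, rfl⟩
      · exact ⟨⟨x, hx.2⟩, Subgroup.mem_sup_right hx.1, rfl⟩
    have hnorm : ∀ u ∈ R.Upos, ∀ x ∈ M', u * x * u⁻¹ ∈ M' := fun u hu => by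
      have hle : M' ≤ M'.comap (MulAut.conj u).toMonoidHom := by
        conv_lhs => rw [hM', Subgroup.map_sup]
        refine sup_le ?_ ?_ <;>
        · rintro _ ⟨y, hy, rfl⟩
          exact hPM _ (Subgroup.mem_inf.2 ⟨mul_mem (mul_mem (hUpara _ hu) hy) (inv_mem (hUpara _ hu)),
            hTn u (hUG hu) _ y.2⟩)
      exact fun x hx => hle hx
    have hn : ∀ i, R.n i ∈ M' ⊔ R.Upos := by
      intro i
      by_cases hi : R.n i ∈ T
      · exact Subgroup.mem_sup_left (hPM i ⟨n_mem_para R rfl, hi⟩)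
      · have h1 : R.n i * u₀ ∈ T := by
          rw [hxor _ (R.n_mem_G i) _ (hUG hu₀)]
          simp [hi, hu₀T]
        have h2 : R.n i * u₀ ∈ M' := hPM i ⟨mul_mem (n_mem_para R rfl) (hUpara i hu₀), h1⟩
        simpa using mul_mem (Subgroup.mem_sup_left (T := R.Upos) h2) (Subgroup.mem_sup_right (inv_mem hu₀))
    have hG : R.G ≤ M' ⊔ R.Upos := by
      refine sup_le (hBU ▸ le_sup_right) (sup_le (hH ▸ bot_le) ((Subgroup.closure_le _).2 ?_))
      rintro _ ⟨i, rfl⟩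
      exact hn i
    rw [eq_top_iff]
    intro g _
    obtain ⟨m, hm, u, hu, e⟩ := exists_mul_of_mem_sup (K := M') (L := R.Upos) hnorm (hG (hTG g.2))
    have huT : u ∈ T := by
      have := mul_mem (inv_mem (Subgroup.map_subtype_le _ hm)) g.2
      rwa [e, inv_mul_cancel_left] at this
    obtain ⟨m, hm', rfl⟩ := hm
    rw [show g = m * ⟨u, huT⟩ from Subtype.ext e]
    exact mul_mem hm' (Subgroup.mem_sup_left (hle 0 (show (⟨u, huT⟩ : ↥T) ∈ S from hu)))

end Cfsg.Agent.LieMinimal
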