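import Cfsg.Agent.Lib.LieMinimal.DerivedTwo
import Cfsg.Agent.Lib.SylowInner.GTwo
import Cfsg.Agent.Lib.ChevOrder.Triangular

/-!
# A good chamber of `G₂(2)' ≅ U₃(3)`

Every double coset of the Sylow subgroup gives, with its conjugates of elements of the Sylow subgroup, an element
of a minimal parabolic.
-/

set_option autoImplicit false
set_option linter.unusedSectionVars false
set_option maxRecDepth 100000

namespace Cfsg.Agent.LieMinimal.GTwo

open Cfsg.Lie Cfsg.Lie.ChevalleyDatum Cfsg.Agent.ChevBN Cfsg.Agent.RGD Cfsg.Agent.Seitz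
open Cfsg.Agent.Chev hiding ev
open Cfsg.Agent.TitsDegree Cfsg.Agent.BitMat Cfsg.Agent.SylowInner.GTwo

local notation "F₂" => ZMod 2
local notation "hD" => Cfsg.Agent.Chev.DataG2.good

/-- Parity of the number of short root elements, for positive and simple negative roots. -/
def parS : List ℕ → Bool
  | [] => false
  | r :: w => ([4, 7, 8, 9].contains r) != parS w

/-- A witness: the case, the form, the Sylow element and the resulting element of a parabolic. -/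
structure Wit where
  m : List ℕ
  k : ℕ
  s : List ℕ
  j : ℕ
  a : List ℕ
  v : List ℕ

/-- The product formed from the case and the Sylow element. -/
def form : ℕ → List ℕ → List ℕ → List ℕ
  | 0, m, _ => m
  | 1, m, s => m ++ s ++ m.reverse
  | 2, m, s => m.reverse ++ s ++ m
  | _, m, s => m ++ s ++ m

/-- The witnesses. -/
def wits : List Wit := [
    ⟨[7, 4, 7, 7], 0, [], 0, [], [7]⟩,
    ⟨[7, 7, 4, 7], 0, [], 0, [7], []⟩,
    ⟨[6, 5, 6], 0, [], 1, [], []⟩,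
    ⟨[7, 6, 5, 6, 7], 0, [], 1, [], [7, 8, 10, 11]⟩,
    ⟨[7, 4, 7, 6, 5, 6, 7], 1, [7, 8], 0, [7], [7, 9]⟩,
    ⟨[7, 7, 4, 7, 6, 5, 6], 2, [6], 1, [6], [6, 7, 9, 10, 11]⟩,
    ⟨[6, 5, 6, 7, 4, 7, 7], 1, [6], 1, [6], [6, 7, 9, 10, 11]⟩,
    ⟨[7, 6, 5, 6, 7, 4, 7], 2, [7, 8], 0, [7], [7, 9]⟩,
    ⟨[7, 4, 7, 6, 5, 6, 7, 4, 7], 1, [8, 9], 0, [7], [6, 7, 9, 10, 11]⟩,
    ⟨[7, 7, 4, 7, 6, 5, 6, 7, 4, 7, 7], 1, [8, 9], 0, [], [8, 10, 11]⟩,
    ⟨[6, 5, 6, 7, 4, 7, 6, 5, 6, 7], 1, [11], 1, [6], [6]⟩,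
    ⟨[7, 6, 5, 6, 7, 4, 7, 6, 5, 6], 1, [11], 1, [6], [6]⟩,
    ⟨[7, 4, 7, 6, 5, 6, 7, 4, 7, 6, 5, 6], 1, [7, 9], 0, [7], [6, 7, 9, 10, 11]⟩,
    ⟨[7, 7, 4, 7, 6, 5, 6, 7, 4, 7, 6, 5, 6, 7], 1, [7, 9], 0, [], [8, 10, 11]⟩,
    ⟨[6, 5, 6, 7, 4, 7, 6, 5, 6, 7, 4, 7], 2, [7, 9], 0, [7], [6, 7, 9, 10, 11]⟩,
    ⟨[7, 6, 5, 6, 7, 4, 7, 6, 5, 6, 7, 4, 7, 7], 2, [7, 9], 0, [], [8, 10, 11]⟩,
    ⟨[7, 4, 7, 6, 5, 6, 7, 4, 7, 6, 5, 6, 7, 4, 7, 7], 3, [7, 8], 0, [7], []⟩,
    ⟨[7, 7, 4, 7, 6, 5, 6, 7, 4, 7, 6, 5, 6, 7, 4, 7], 3, [7, 8, 10, 11], 0, [], [7]⟩,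
    ⟨[6, 5, 6, 7, 4, 7, 6, 5, 6, 7, 4, 7, 6, 5, 6], 1, [10], 1, [6], [6]⟩,
    ⟨[7, 6, 5, 6, 7, 4, 7, 6, 5, 6, 7, 4, 7, 6, 5, 6, 7], 1, [10], 1, [6], [6]⟩,
    ⟨[7, 4, 7, 6, 5, 6, 7, 4, 7, 6, 5, 6, 7, 4, 7, 6, 5, 6, 7], 3, [], 0, [7], []⟩,
    ⟨[7, 7, 4, 7, 6, 5, 6, 7, 4, 7, 6, 5, 6, 7, 4, 7, 6, 5, 6], 3, [], 0, [], [7]⟩]

/-- Correctness of a witness. -/
def okW (x : Wit) : Bool :=
  decide (x.j < 2) && [[], [7 - x.j]].contains x.a && words.contains x.v && words.contains x.s && !par x.s &&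
    ev (form x.k x.m x.s) == ev (x.a ++ nW x.j ++ x.v)

theorem case_check : ∀ w ∈ wW, ∀ a ∈ [[], [7]], ∀ c ∈ [[], [7]],
    (parS (a ++ w ++ c) || ev (a ++ w ++ c) == ev [] || wits.any fun x => x.m == a ++ w ++ c && okW x) = true := by
  decide +kernel

theorem letters_check : ∀ w ∈ wW, ∀ a ∈ [[], [7]], ∀ c ∈ [[], [7]], ∀ r ∈ a ++ w ++ c, 4 ≤ r ∧ r < 12 := by
  decide +kernel

theorem five_check : ev ([6, 5, 6] ++ [6]) = ev ([5] ++ [6, 5, 6]) := by decide +kernel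

theorem centre_one_check : ∀ c ∈ cand, (c == [] || nc c (nW 1)) = true := by decide +kernel

theorem el_mem_DG' : ∀ w : List ℕ, (∀ r ∈ w, 4 ≤ r ∧ r < 12) → (el w ∈ DG ↔ parS w = false)
  | [], _ => iff_of_true (one_mem _) rfl
  | r :: w, h => by
    obtain ⟨h1, h2⟩ := h r List.mem_cons_self
    have hw : ∀ x ∈ w, 4 ≤ x ∧ x < 12 := fun x hx => h x (List.mem_cons_of_mem _ hx)
    have hs : el [r] ∈ DG ↔ [4, 7, 8, 9].contains r = false := by
      rcases Nat.lt_or_ge r 6 with h6 | h6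
      · interval_cases r
        · rw [short_iff (a := 7) (b := 4) (n := [7, 4, 7]) (by norm_num) (by norm_num) (by decide)
            short_conj_check.2.2, single_mem 7 (by norm_num) (by norm_num)]
          decide
        · rw [short_iff (a := 6) (b := 5) (n := [6, 5, 6]) (by norm_num) (by norm_num) (by decide) five_check,
            single_mem 6 (by norm_num) (by norm_num)]
          decide
      · rw [single_mem r h6 h2]
        have key : ∀ x < 12, 6 ≤ x → [4, 7, 8, 9].contains x = [7, 8, 9].contains x := by decide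
        rw [key r h2 h6]
    rw [show r :: w = [r] ++ w from rfl, el_append, xor_mem (el_mem_G (by simp [h2]))
      (el_mem_G fun x hx => (hw x hx).2), hs, el_mem_DG' w hw]
    show _ ↔ ([4, 7, 8, 9].contains r != parS w) = false
    cases [4, 7, 8, 9].contains r <;> cases parS w <;> simp

theorem el_reverse : ∀ w : List ℕ, (∀ r ∈ w, r < 12) → el w.reverse = (el w)⁻¹
  | [], _ => by rw [List.reverse_nil, el_nil, inv_one]
  | r :: w, h => by
    rw [List.reverse_cons, el_append, el_reverse w fun x hx => h x (List.mem_cons_of_mem _ hx),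
      show r :: w = [r] ++ w from rfl, el_append, mul_inv_rev,
      ← eq_inv_of_mul_eq_one_left (sq_el (h r List.mem_cons_self))]

theorem el_form (k : ℕ) {m s : List ℕ} (hm : ∀ r ∈ m, r < 12) {M : Subgroup (GL chevG2.Idx F₂)} (h1 : el m ∈ M)
    (h2 : el s ∈ M) : el (form k m s) ∈ M := by
  match k with
  | 0 => exact h1
  | 1 => rw [form, el_append, el_append, el_reverse m hm]; exact mul_mem (mul_mem h1 h2) (inv_mem h1)
  | 2 => rw [form, el_append, el_append, el_reverse m hm]; exact mul_mem (mul_mem (inv_mem h1) h2) h1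
  | k + 3 => rw [form, el_append, el_append] <;> first | exact mul_mem (mul_mem h1 h2) h1 | omega

theorem seven_sq : el [7] * el [7] = 1 := sq_el (by norm_num)

theorem seven_mem : el [7] ∈ RD.Upos ∧ el [7] ∈ RD.G ∧ el [7] ∉ DG := by
  refine ⟨el_mem_Upos (List.mem_sublists.2 (by simp)), el_mem_G (by simp), ?_⟩
  rw [single_mem 7 (by norm_num) (by norm_num)]
  simp

theorem Upos_le_G : RD.Upos ≤ RD.G := RD.Upos_le_B.trans RD.B_le_G

theorem split_left {b : GL chevG2.Idx F₂} (hb : b ∈ RD.Upos) :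
    ∃ s ∈ RD.Upos ⊓ DG, ∃ a ∈ [[], [7]], b = s * el a := by
  obtain ⟨h7U, h7G, h7⟩ := seven_mem
  by_cases h : b ∈ DG
  · exact ⟨b, ⟨hb, h⟩, [], by simp, by rw [el_nil, mul_one]⟩
  · exact ⟨b * el [7], ⟨mul_mem hb h7U, (xor_mem (Upos_le_G hb) h7G).2 (iff_of_false h h7)⟩, [7], by simp,
      by rw [mul_assoc, seven_sq, mul_one]⟩

theorem split_right {b : GL chevG2.Idx F₂} (hb : b ∈ RD.Upos) :
    ∃ s ∈ RD.Upos ⊓ DG, ∃ a ∈ [[], [7]], b = el a * s := by
  obtain ⟨h7U, h7G, h7⟩ := seven_mem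
  by_cases h : b ∈ DG
  · exact ⟨b, ⟨hb, h⟩, [], by simp, by rw [el_nil, one_mul]⟩
  · exact ⟨el [7] * b, ⟨mul_mem h7U hb, (xor_mem h7G (Upos_le_G hb)).2 (iff_of_false h7 h)⟩, [7], by simp,
      by rw [← mul_assoc, seven_sq, one_mul]⟩

theorem overgroup_hit (M : Subgroup (GL chevG2.Idx F₂)) (hM : M ≤ DG) (hlt : RD.Upos ⊓ DG < M) :
    ∃ i : Fin chevG2.rank, ∃ g ∈ M, g ∈ para RD {i} ∧ g ∉ RD.Upos := by
  obtain ⟨g, hg, hgU⟩ := SetLike.exists_of_lt hlt
  obtain ⟨b, hb, l, v, hv, e⟩ := RD.exists_normalForm (DG_le (hM hg))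
  rw [show RD.B = RD.Upos by rw [RootData.B, SylowInner.GTwo.H_eq_bot, sup_bot_eq]] at hb
  have hv' := RD.Uminus_le_Upos l hv
  obtain ⟨w, hw, el'⟩ := exists_weyl l
  obtain ⟨s1, hs1, a, ha, rfl⟩ := split_left hb
  obtain ⟨s2, hs2, c, hc, rfl⟩ := split_right hv'
  have hlet := letters_check w hw a ha c hc
  have hlt12 : ∀ r ∈ a ++ w ++ c, r < 12 := fun r hr => (hlet r hr).2
  have hmM : el (a ++ w ++ c) ∈ M := by
    have h := mul_mem (mul_mem (inv_mem (hlt.le hs1)) hg) (inv_mem (hlt.le hs2))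
    rw [el_append, el_append, ← el']
    rwa [e, show s1⁻¹ * (s1 * el a * RD.nw l * (el c * s2)) * s2⁻¹ = el a * RD.nw l * el c by group] at h
  have h := case_check w hw a ha c hc
  rw [(el_mem_DG' _ hlet).1 (hM hmM)] at h
  simp only [Bool.false_or, Bool.or_eq_true, beq_iff_eq, List.any_eq_true, Bool.and_eq_true] at h
  rcases h with h | ⟨x, -, hxm, hok⟩
  · exfalso
    refine hgU ⟨?_, hM hg⟩
    have h1 : el a * RD.nw l * el c = 1 := by
      rw [el', ← el_append, ← el_append, el_eq hlt12 (by simp) h, el_nil]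
    rw [e, show s1 * el a * RD.nw l * (el c * s2) = s1 * (el a * RD.nw l * el c) * s2 by group, h1, mul_one]
    exact mul_mem hs1.1 hs2.1
  simp only [okW, Bool.and_eq_true, decide_eq_true_eq, List.contains_iff_mem, Bool.not_eq_true', beq_iff_eq] at hok
  obtain ⟨⟨⟨⟨⟨hj, hxa⟩, hxv⟩, hxs⟩, hxp⟩, hev⟩ := hok
  let i : Fin chevG2.rank := ⟨x.j, hj⟩
  have hxlet : ∀ r ∈ x.a ++ nW x.j ++ x.v, r < 12 := by
    have hn : ∀ k < 2, ∀ a ∈ [[], [7 - k]], ∀ r ∈ a ++ nW k, r < 12 := by decide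
    intro r hr
    rcases List.mem_append.1 hr with hr | hr
    · exact hn _ hj _ hxa r hr
    · exact lt12 hxv r hr
  have hflet : ∀ r ∈ form x.k x.m x.s, r < 12 := by
    rw [hxm]
    intro r hr
    have : r ∈ a ++ w ++ c ∨ r ∈ x.s := by
      revert hr
      unfold form
      split <;> simp only [List.mem_append, List.mem_reverse] <;> tauto
    exact this.elim (hlt12 r) (lt12 hxs r)
  have hsM : el x.s ∈ M := hlt.le ⟨el_mem_Upos hxs, (el_mem_DG _ (roots_lt hxs)).2 hxp⟩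
  have hh : el (x.a ++ nW x.j ++ x.v) ∈ M := by
    rw [← el_eq hflet hxlet hev]
    exact el_form _ (by rw [hxm]; exact hlt12) (hxm ▸ hmM) hsM
  have haU : el x.a ∈ RD.U (RD.simple i) := by
    simp only [List.mem_cons, List.not_mem_nil, or_false] at hxa
    rcases hxa with e | e <;> rw [e]
    · rw [el_nil]; exact one_mem _
    · have h7 : 7 - x.j < 12 := by omega
      rw [el_singleton, show RD.simple i = ⟨7 - x.j, h7⟩ from Fin.ext (simple_val i)]
      exact xg_mem_U h7 1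
  have hn : RD.n i = el (nW x.j) := n_eq i
  refine ⟨i, _, hh, ?_, fun hU => n_not_mem RD SylowInner.GTwo.H_eq_bot i ?_⟩
  · rw [el_append, el_append, ← hn]
    have hU : RD.Upos ≤ para RD {i} := RD.Upos_le_B.trans le_sup_left
    exact mul_mem (mul_mem (hU (RD.U_le_Upos (RD.pos_simple i) haU)) (n_mem_para RD rfl)) (hU (el_mem_Upos hxv))
  · rw [el_append, el_append, ← hn] at hU
    simpa [mul_assoc] using mul_mem (mul_mem (inv_mem (RD.U_le_Upos (RD.pos_simple i) haU)) hU)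
      (inv_mem (el_mem_Upos hxv))

theorem card_U (r : Fin chevG2.nroots) : Nat.card ↥(RD.U r) = 2 :=
  (ChevOrder.card_rootSubgroup hD r.isLt).trans (Nat.card_zmod 2)

theorem card_Upos : Nat.card ↥RD.Upos = 64 := by
  rw [chev_Upos hD rootsG2, ChevOrder.card_posUnipotent hD, Nat.card_zmod]
  rfl

theorem odd_index : ¬ 2 ∣ RD.Upos.relIndex RD.G := by
  have h := (RD.Upos.subgroupOf RD.G).card_mul_index
  rw [Nat.card_congr (Subgroup.subgroupOfEquivOfLe Upos_le_G).toEquiv, card_Upos, card_G] at h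
  show ¬ 2 ∣ (RD.Upos.subgroupOf RD.G).index
  omega

theorem out (j : Fin chevG2.rank) : ¬ RD.Udel j ≤ DG := by
  intro h
  have h8 : el [8] ∈ DG := h (el_mem_Udel j (List.mem_sublists.2 (by simp)) (by
    have key : ∀ k < 2, [8].contains (7 - k) = false := by decide
    exact key j.val j.isLt))
  rw [single_mem 8 (by norm_num) (by norm_num)] at h8
  simp at h8

theorem index_cases (j : Fin chevG2.rank) : j = i0 ∨ j = i1 :=
  (Nat.lt_succ_iff_lt_or_eq.1 (show j.val < 2 from j.isLt)).imp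
    (fun h => Fin.ext (Nat.lt_one_iff.1 h)) (fun h => Fin.ext h)

theorem card_half : Nat.card ↥(RD.Upos.subgroupOf DG) = 32 := by
  have e : Nat.card ↥(RD.Upos.subgroupOf DG) = Nat.card ↥(DG.subgroupOf RD.Upos) := by
    rw [← Subgroup.inf_subgroupOf_right RD.Upos DG, ← Subgroup.inf_subgroupOf_right DG RD.Upos,
      Nat.card_congr (Subgroup.subgroupOfEquivOfLe inf_le_right).toEquiv,
      Nat.card_congr (Subgroup.subgroupOfEquivOfLe inf_le_right).toEquiv, inf_comm]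
  have h := Subgroup.card_mul_index (DG.subgroupOf RD.Upos)
  have h2 : (DG.subgroupOf RD.Upos).index = 2 := by
    have h1 := Subgroup.relIndex_le_of_le_right (H := DG) Upos_le_G (by rw [relIndex_DG]; norm_num)
    rw [relIndex_DG] at h1
    change (DG.subgroupOf RD.Upos).index ≤ 2 at h1
    have h0 : (DG.subgroupOf RD.Upos).index ≠ 0 := Subgroup.index_ne_zero_of_finite
    have h3 : (DG.subgroupOf RD.Upos).index ≠ 1 := fun h => not_Upos_le (Subgroup.subgroupOf_eq_top.1 (Subgroup.index_eq_one.1 h))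
    omega
  rw [h2, card_Upos] at h
  omega

set_option maxHeartbeats 800000 in
theorem sym (σ : MulAut ↥DG) : (half RD DG i0).map σ.toMonoidHom ≠ half RD DG i1 := by
  intro h
  have h11 : el [11] ∈ DG := (el_mem_DG _ (by simp)).2 rfl
  have hc11 : ∀ u ∈ RD.Upos, Commute (el [11]) u := fun u hu => by
    obtain ⟨w, hw, rfl⟩ := exists_word hu
    exact commute_of (by simp) (lt12 hw) (centre_z_check w hw)
  set z : ↥DG := ⟨el [11], h11⟩
  have hz1 : el [11] ≠ el [] := el_ne (by simp) (by simp) (by decide +kernel)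
  have hzU : el [11] ∈ RD.Upos := el_mem_Upos (List.mem_sublists.2 (by simp))
  have hzP : z ∈ half RD DG i0 := (RD.Upos_le_B.trans le_sup_left : RD.Upos ≤ para RD {i0}) hzU
  have hy : σ z ∈ half RD DG i1 := h ▸ ⟨z, hzP, rfl⟩
  have hcy : ∀ g ∈ half RD DG i1, σ z * g = g * σ z := by
    intro g hg
    rw [← h] at hg
    obtain ⟨g₀, hg₀, rfl⟩ := hg
    show σ z * σ g₀ = σ g₀ * σ z
    rw [← map_mul, ← map_mul, show z * g₀ = g₀ * z from Subtype.ext (centre_centralises ⟨hzU, h11⟩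
      (fun s hs => hc11 s hs.1) ⟨hg₀, g₀.2⟩).eq]
  have hS1 : RD.Upos.subgroupOf DG ≤ half RD DG i1 := fun x hx =>
    (RD.Upos_le_B.trans le_sup_left : RD.Upos ≤ para RD {i1}) hx
  have hyU : ((σ z : ↥DG) : GL chevG2.Idx F₂) ∈ RD.Upos := by
    haveI : Fact (Nat.Prime 2) := ⟨Nat.prime_two⟩
    have hSp : IsPGroup 2 ↥(RD.Upos.subgroupOf DG) :=
      (isPGroup_Upos.to_le (inf_le_right : DG ⊓ RD.Upos ≤ RD.Upos)).of_equiv
        (Subgroup.subgroupOfEquivOfLe (inf_le_left : DG ⊓ RD.Upos ≤ DG)).symm |>.of_equiv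
          (MulEquiv.subgroupCongr (Subgroup.inf_subgroupOf_left RD.Upos DG))
    have hnle : Subgroup.zpowers (σ z) ≤ Subgroup.normalizer (RD.Upos.subgroupOf DG : Set ↥DG) :=
      Subgroup.zpowers_le.2 (mem_normalizer_of_map_le fun u hu => by
        rw [hcy u (hS1 hu), mul_inv_cancel_right]
        exact hu)
    have hz2 : σ z ^ 2 ^ 1 = 1 := by
      rw [pow_one, ← map_pow, show z ^ 2 = 1 from Subtype.ext ((pow_two _).trans (sq_el (by norm_num))), map_one]
    have hzp : IsPGroup 2 ↥(Subgroup.zpowers (σ z)) := by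
      intro g
      refine ⟨1, Subtype.ext ?_⟩
      obtain ⟨k, hk⟩ := Subgroup.mem_zpowers_iff.1 g.2
      rw [SubmonoidClass.coe_pow, ← hk, ← zpow_natCast, ← zpow_mul, mul_comm, zpow_mul, zpow_natCast, hz2, one_zpow]
      rfl
    have hidx : ¬ 2 ∣ (RD.Upos.subgroupOf DG).index := by
      have h1 := (RD.Upos.subgroupOf DG).card_mul_index
      rw [card_half, card_DG] at h1
      omega
    have hsup := (hSp.toSylow hidx).is_maximal' (IsPGroup.to_sup_of_normal_right' hzp hSp hnle) le_sup_right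
    have : σ z ∈ RD.Upos.subgroupOf DG :=
      hsup.le (Subgroup.mem_sup_left (Subgroup.mem_zpowers (σ z)))
    exact this
  obtain ⟨w, hw, ew⟩ := exists_word hyU
  have hwD : par w = false := (el_mem_DG w (roots_lt hw)).1 (ew ▸ (σ z).2)
  have hcand := centre_check.1 w hw hwD
  simp only [Bool.or_eq_true, List.contains_iff_mem, List.any_eq_true, List.mem_filter, Bool.not_eq_true'] at hcand
  rcases hcand with hc | ⟨q, hq, hnc⟩
  swap
  · have hqD := (el_mem_DG q (roots_lt hq.1)).2 hq.2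
    have := congrArg Subtype.val (hcy ⟨el q, hqD⟩ (hS1 (el_mem_Upos hq.1)))
    exact not_commute (lt12 hw) (lt12 hq.1) hnc (ew ▸ this)
  have hone := centre_one_check w hc
  simp only [Bool.or_eq_true, beq_iff_eq] at hone
  rcases hone with rfl | hnc
  · rw [el_nil] at ew
    have : z = 1 := σ.injective ((Subtype.ext ew).trans (map_one σ).symm)
    exact hz1 ((congrArg Subtype.val this).trans el_nil.symm)
  · have hnD : el (nW 1) ∈ DG := (el_mem_DG' _ (by decide)).2 (by decide)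
    have hn : RD.n i1 = el (nW 1) := n_eq i1
    have hnP : el (nW 1) ∈ para RD {i1} := by
      rw [← hn]; exact n_mem_para RD (Set.mem_singleton i1)
    have hmem : (⟨el (nW 1), hnD⟩ : ↥DG) ∈ half RD DG i1 := hnP
    have h2 := congrArg Subtype.val (hcy _ hmem)
    simp only [Subgroup.coe_mul] at h2
    rw [ew] at h2
    exact not_commute (lt12 hw) (by decide) hnc h2

theorem good_DG : Good 2 ↥DG := by
  haveI : Fact (Nat.Prime 2) := ⟨Nat.prime_two⟩
  refine good_derived RD SylowInner.GTwo.H_eq_bot DG_le relIndex_DG (![i0, i1]) index_cases out isPGroup_Upos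
    odd_index (fun i => ?_) (fun i => ?_) (fun M hM hlt => ?_) (Or.inr sym)
  · rw [card_U]; norm_num
  · rw [card_U, card_Upos, card_G]; norm_num
  · obtain ⟨j, g, h⟩ := overgroup_hit M hM hlt
    rcases index_cases j with rfl | rfl
    exacts [⟨0, g, h⟩, ⟨1, g, h⟩]

open Cfsg.Agent.Golay.UThree in
theorem good_isoUThree {K : Type*} [Group K]
    (h : ∃ (F : Type) (_ : Field F) (_ : Fintype F), Fintype.card F = 9 ∧ Nonempty (K ≃* Cfsg.PSU 3 F 3)) :
    Good 2 K := by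
  haveI : Fact (Nat.Prime 2) := ⟨Nat.prime_two⟩
  obtain ⟨F, _, _, hF, ⟨e⟩⟩ := h
  obtain ⟨e'⟩ := g2_derived_equiv (F := F₂) (K := F) (ZMod.card 2) hF
  exact Good.of_equiv ((e.trans e'.symm).trans
    (Subgroup.equivMapOfInjective _ _ (Subgroup.subtype_injective _))) good_DG

end Cfsg.Agent.LieMinimal.GTwo
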