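import Cfsg.Agent.Lib.LieMinimal.Rooted
import Cfsg.Agent.Lib.OrthBN.Models

/-!
# Good chambers of orthogonal groups

* `good_frame` : `eichGen Q` modulo its centre, for a frame of rank at least three (four without core);
* `good_pomegaOdd`, `good_pomegaPlus`, `good_pomegaMinus`.
-/

set_option autoImplicit false
set_option linter.unusedSectionVars false

namespace Cfsg.Agent.LieMinimal

open Subgroup Cfsg.Agent.Orth Cfsg.Agent.OrthBN
open QuadraticMap (polar)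

variable {ι : Type} [Fintype ι] [DecidableEq ι] {F : Type} [Field F] [Fintype F]
variable {Q : QuadraticForm F (ι → F)} {m : ℕ} (Φ : OFrame Q m) (hm : Φ.HasCore ∨ 2 ≤ m)

theorem pairPerm_fix {A C a : Ix m} (h1 : a ≠ A) (h2 : a ≠ C) (h3 : a ≠ Sum.swap A) (h4 : a ≠ Sum.swap C) :
    pairPerm A C a = a := by
  rw [pairPerm, Equiv.Perm.mul_apply, Equiv.swap_apply_of_ne_of_ne h3 h4, Equiv.swap_apply_of_ne_of_ne h1 h2]

theorem sim_fix_first (h2 : 2 < m) (h3 : Φ.HasCore ∨ 3 < m) {j : Fin m} (hj : 2 ≤ j.val) (a : Ix m)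
    (ha : a = .inl ⟨0, by omega⟩ ∨ a = .inl ⟨1, by omega⟩ ∨ a = .inr ⟨0, by omega⟩ ∨ a = .inr ⟨1, by omega⟩) :
    (Φ.sim hm j).π a = a := by
  by_cases hjm : j.val + 1 < m
  · rw [Φ.sim_adj hm hjm]
    show pairPerm _ _ _ = _
    rcases ha with rfl | rfl | rfl | rfl <;>
      refine pairPerm_fix ?_ ?_ ?_ ?_ <;>
      simp only [Sum.swap_inl, Sum.swap_inr, ne_eq, Sum.inl.injEq, Sum.inr.injEq, reduceCtorEq, not_false_eq_true,
        Fin.ext_iff] <;> omega
  · by_cases hc : Φ.HasCore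
    · rw [Φ.sim_B hm hjm hc]
      show flipPerm _ _ = _
      rcases ha with rfl | rfl | rfl | rfl <;>
        rw [flipPerm, Equiv.swap_apply_of_ne_of_ne] <;>
        simp only [Sum.swap_inl, Sum.swap_inr, ne_eq, Sum.inl.injEq, Sum.inr.injEq, reduceCtorEq,
          not_false_eq_true, Fin.ext_iff] <;> omega
    · have := h3.resolve_left hc
      rw [Φ.sim_D hm hjm hc]
      show pairPerm _ _ _ = _
      rcases ha with rfl | rfl | rfl | rfl <;>
        refine pairPerm_fix ?_ ?_ ?_ ?_ <;>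
        simp only [Sum.swap_inl, Sum.swap_inr, ne_eq, Sum.inl.injEq, Sum.inr.injEq, reduceCtorEq,
          not_false_eq_true, Fin.ext_iff] <;> omega

theorem sim_zero_fix (h1 : 1 < m) {a : Ix m}
    (h : a ≠ .inl ⟨0, by omega⟩ ∧ a ≠ .inl ⟨1, h1⟩ ∧ a ≠ .inr ⟨0, by omega⟩ ∧ a ≠ .inr ⟨1, h1⟩) :
    (Φ.sim hm ⟨0, by omega⟩).π a = a := by
  rw [Φ.sim_adj hm (show (⟨0, by omega⟩ : Fin m).val + 1 < m from h1)]
  show pairPerm _ _ _ = _
  obtain ⟨a1, a2, a3, a4⟩ := h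
  simp only [pairPerm, Equiv.Perm.mul_apply, Sum.swap_inl]
  rw [Equiv.swap_apply_of_ne_of_ne a3 a4, Equiv.swap_apply_of_ne_of_ne a1 a2]

theorem sim_comm (h2 : 2 < m) (h3 : Φ.HasCore ∨ 3 < m) {j : Fin m} (hj : 2 ≤ j.val) (a : Ix m) :
    (Φ.sim hm ⟨0, by omega⟩).π ((Φ.sim hm j).π a) = (Φ.sim hm j).π ((Φ.sim hm ⟨0, by omega⟩).π a) := by
  by_cases h : a = .inl ⟨0, by omega⟩ ∨ a = .inl ⟨1, by omega⟩ ∨ a = .inr ⟨0, by omega⟩ ∨ a = .inr ⟨1, by omega⟩
  · rw [sim_fix_first Φ hm h2 h3 hj a h]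
    refine (sim_fix_first Φ hm h2 h3 hj _ ?_).symm
    have h0 : (⟨0, by omega⟩ : Fin m).val + 1 < m := by show 0 + 1 < m; omega
    rw [Φ.sim_adj hm h0]
    show pairPerm _ _ _ = _ ∨ pairPerm _ _ _ = _ ∨ pairPerm _ _ _ = _ ∨ pairPerm _ _ _ = _
    rcases h with rfl | rfl | rfl | rfl <;>
      simp [pairPerm, Equiv.Perm.mul_apply, Equiv.swap_apply_def, Fin.ext_iff]
  · have h' : (Φ.sim hm j).π a ≠ .inl ⟨0, by omega⟩ ∧ (Φ.sim hm j).π a ≠ .inl ⟨1, by omega⟩ ∧
        (Φ.sim hm j).π a ≠ .inr ⟨0, by omega⟩ ∧ (Φ.sim hm j).π a ≠ .inr ⟨1, by omega⟩ := by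
      refine ⟨?_, ?_, ?_, ?_⟩ <;> intro e <;> refine h ?_
      all_goals
        have e' := congrArg (Φ.sim hm j).π e
        rw [(Φ.sim hm j).invol, sim_fix_first Φ hm h2 h3 hj _ (by simp)] at e'
        simp [e']
    push Not at h
    rw [sim_zero_fix Φ hm (by omega) h, sim_zero_fix Φ hm (by omega) h']

set_option maxHeartbeats 800000 in
theorem good_frame (h2 : 2 < m) (h3 : Φ.HasCore ∨ 3 < m) (hn : 3 ≤ Fintype.card ι) {p : ℕ} [Fact p.Prime]
    [CharP F p] (htor : ∀ t ∈ eichGen Q, t ∈ Φ.torus → ∀ k : ℕ, t ^ p ^ k = 1 → t = 1) :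
    Good p (↥(eichGen Q) ⧸ center ↥(eichGen Q)) := by
  classical
  have hm : Φ.HasCore ∨ 2 ≤ m := Or.inr (by omega)
  haveI : Finite ↥(eichGen Q) := Subtype.finite
  set D := Φ.rankOne hm (by omega) hn
  set P := D.pair
  set U : Subgroup ↥(eichGen Q) := Φ.unip.subgroupOf (eichGen Q)
  have hUB : U ≤ P.B := fun _ h => Φ.unip_le_bor h
  have hUp : IsPGroup p ↥U := Φ.unip_pGroup p
  have huniq : ∀ g : ↥(eichGen Q), (∀ u ∈ U, g⁻¹ * u * g ∈ P.B) → g ∈ P.B := by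
    intro g hg
    obtain ⟨w, hgw⟩ := BN.exists_mem_C P g
    induction w using QuotientGroup.induction_on with
    | H n =>
      obtain ⟨b, hb, b', hb', rfl⟩ := (BN.mem_C_mk P).1 hgw
      have hn' : ∀ u ∈ U, (n : ↥(eichGen Q))⁻¹ * u * n ∈ P.B := by
        intro u hu
        have h1 := hg (b * u * b⁻¹) (Φ.unip_conj (show b.1 ∈ Φ.bor from hb) hu)
        have h2 := mul_mem (mul_mem hb' h1) (inv_mem hb')
        convert h2 using 1
        group
      suffices (n : ↥(eichGen Q)) ∈ P.B from mul_mem (mul_mem hb this) hb'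
      by_contra hnB
      have hne : BN.wOf P (inv_mem n.2) ≠ 1 := fun h => hnB (by
        simpa using inv_mem ((BN.wOf_eq_one_iff P (inv_mem n.2)).1 h))
      obtain ⟨⟨_, j, rfl⟩, -, hd⟩ := (BN.hasExchange P).exists_rightDesc_on (A := Set.univ)
        (by rw [Set.image_univ, (BN.hasExchange P).gen]; trivial) hne
      obtain ⟨x, hx, hnot⟩ := D.exists_conj_not_mem ⟨j, rfl⟩ (inv_mem n.2) hd
      refine hnot ?_
      rw [inv_inv]
      exact hn' x ((Φ.sim hm j).X_le x.1 (hx.1 j rfl))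
  have hNB : ∀ g ∈ normalizer (U : Set ↥(eichGen Q)), g ∈ P.B := fun g hg => huniq g fun u hu => hUB (by
    have := (mem_normalizer_iff.1 (inv_mem hg) u).1 hu
    rwa [inv_inv] at this)
  have hmax : ∀ {R : Subgroup ↥(eichGen Q)}, IsPGroup p ↥R → U ≤ R → R = U := by
    intro R hR hle
    refine le_antisymm ?_ hle
    by_contra hne
    have hlt : U.subgroupOf R < ⊤ := lt_of_le_of_ne le_top fun e => hne (subgroupOf_eq_top.1 e)
    haveI := hR.isNilpotent
    obtain ⟨y, hy, hyU⟩ := SetLike.exists_of_lt (normalizerCondition_of_isNilpotent _ hlt)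
    have hyB : (y : ↥(eichGen Q)) ∈ P.B := hNB _ (mem_normalizer_of_map_le fun u hu =>
      (mem_normalizer_iff.1 hy ⟨u, hle hu⟩).1 hu)
    obtain ⟨t, ht, hbt⟩ := Φ.exists_diag_fix (show y.1.1 ∈ Φ.bor from hyB)
    have htE : t ∈ eichGen Q := by
      have := mul_mem (inv_mem y.1.2) (Φ.unip_le_eichGen hbt)
      rwa [inv_mul_cancel_left] at this
    have hyR : y.1 * ⟨t, htE⟩ ∈ U := hbt
    have htR : (⟨t, htE⟩ : ↥(eichGen Q)) ∈ R := by
      have := mul_mem (inv_mem y.2) (hle hyR)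
      rwa [inv_mul_cancel_left] at this
    obtain ⟨k, hk⟩ := hR ⟨_, htR⟩
    have hk' : t ^ p ^ k = 1 := congrArg (fun z : ↥R => (z.1.1 : IsoGrp Q)) hk
    obtain rfl := htor t htE ht k hk'
    rw [show (⟨1, htE⟩ : ↥(eichGen Q)) = 1 from rfl, mul_one] at hyR
    exact hyU (mem_subgroupOf.2 hyR)
  let S : Sylow p ↥(eichGen Q) := { toSubgroup := U, isPGroup' := hUp, is_maximal' := hmax }
  let s : Fin m → P.S := fun j => ⟨Φ.sE hm j, j, rfl⟩
  have hs : Function.Bijective s :=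
    ⟨fun i j e => Φ.sE_apply_eq hm (congrArg Subtype.val e), by rintro ⟨_, j, rfl⟩; exact ⟨j, rfl⟩⟩
  set C := Chamber.ofPair P U s hs hUp hUB (fun b hb u hu => Φ.unip_conj (show b.1 ∈ Φ.bor from hb) hu)
    (fun hd => S.not_dvd_index (hd.trans (relIndex_dvd_index_of_le hUB)))
    (fun j hj => D.not_mem (s j).2 (hNB _ hj))
  set π := QuotientGroup.mk' (center ↥(eichGen Q))
  have hker : π.ker ≤ C.B := by
    rw [QuotientGroup.ker_mk']
    intro z hz
    refine hNB z (mem_normalizer_of_map_le fun u hu => ?_)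
    rwa [← mem_center_iff.1 hz u, mul_inv_cancel_right]
  have hπ : Function.Surjective π := QuotientGroup.mk'_surjective _
  refine ⟨C.map π hπ hker, fun hT => ?_, fun h1 => by have h1' : m = 1 := h1; omega,
    fun _ => C.branch_map _ _ hker ?_, fun h _ => by have h' : m = 2 := h; omega⟩
  · have h := (C.map π hπ hker).lt ⟨0, show 0 < m by omega⟩
    rw [hT] at h
    exact not_top_lt h
  -- the permutations of the commutators
  have hsend : ∀ (i j : Fin m) (a : Ix m),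
      Φ.Sends ((Φ.sim hm i).s * (Φ.sim hm j).s) a ((Φ.sim hm i).π ((Φ.sim hm j).π a)) := fun i j a =>
    Φ.sends_trans ((Φ.sim hm j).sends a) ((Φ.sim hm i).sends _)
  have hne : ∀ (i j : Fin m) (a : Ix m), i ≠ j →
      (Φ.sim hm i).π ((Φ.sim hm j).π a) ≠ (Φ.sim hm j).π ((Φ.sim hm i).π a) → ¬ C.Perm i j := by
    intro i j a hij ha hP
    have hB0 := (perm_ofPair_iff P hij).1 hP
    have hB1 : Φ.sE hm i * Φ.sE hm j * (Φ.sE hm i)⁻¹ * (Φ.sE hm j)⁻¹ ∈ Φ.borE := hB0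
    have hB : (Φ.sim hm i).s * (Φ.sim hm j).s * (Φ.sim hm i).s⁻¹ * (Φ.sim hm j).s⁻¹ ∈ Φ.bor := hB1
    have ht := Φ.mono_inf_bor (mul_mem (mul_mem (mul_mem (Φ.sim hm i).s_mono (Φ.sim hm j).s_mono)
      (inv_mem (Φ.sim hm i).s_mono)) (inv_mem (Φ.sim hm j).s_mono)) hB
    refine ha (Φ.sends_unique (hsend i j a) ?_)
    have := Φ.sends_trans (hsend j i a) (ht _)
    rwa [show (Φ.sim hm i).s * (Φ.sim hm j).s * (Φ.sim hm i).s⁻¹ * (Φ.sim hm j).s⁻¹ *
      ((Φ.sim hm j).s * (Φ.sim hm i).s) = (Φ.sim hm i).s * (Φ.sim hm j).s by group] at this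
  let n0 : Fin m := ⟨0, by omega⟩
  let n1 : Fin m := ⟨1, by omega⟩
  let n2 : Fin m := ⟨2, h2⟩
  have d01 : n1 ≠ n0 := fun e => by simp [n0, n1, Fin.ext_iff] at e
  have d12 : n1 ≠ n2 := fun e => by simp [n2, n1, Fin.ext_iff] at e
  have d02 : n0 ≠ n2 := fun e => by simp [n0, n2, Fin.ext_iff] at e
  have h01 : n0.val + 1 < m := by show 0 + 1 < m; omega
  have h12 : n1.val + 1 < m := by show 1 + 1 < m; omega
  have p10 : ¬ C.Perm n1 n0 := by
    refine hne n1 n0 (Sum.inl n0) d01 ?_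
    rw [Φ.sim_adj hm h12, Φ.sim_adj hm h01]
    show pairPerm _ _ (pairPerm _ _ _) ≠ pairPerm _ _ (pairPerm _ _ _)
    simp [n0, n1, pairPerm, Equiv.swap_apply_def, Fin.ext_iff]
  have p12 : ¬ C.Perm n1 n2 := by
    refine hne n1 n2 (Sum.inl n1) d12 ?_
    have hfix : (Φ.sim hm n2).π (Sum.inl n1) = Sum.inl n1 :=
      sim_fix_first Φ hm h2 h3 (le_refl 2) _ (Or.inr (Or.inl rfl))
    rw [hfix, Φ.sim_adj hm h12]
    intro e
    have e1 : pairPerm (Sum.inl n1) (Sum.inl (⟨n1.val + 1, h12⟩ : Fin m)) (Sum.inl n1) = Sum.inl n2 := by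
      simp [n1, n2, pairPerm, Equiv.swap_apply_def, Fin.ext_iff]
    change pairPerm _ _ _ = (Φ.sim hm n2).π (pairPerm _ _ _) at e
    rw [e1] at e
    exact ((Φ.sim_π hm n2 n2).2 (Or.inl rfl)) e.symm
  refine ⟨n0, n1, n0, n2, n1, d02, d01.symm, d12.symm, p10, p12, fun j hj hn' => ?_⟩
  by_contra hj1
  refine hn' ((perm_ofPair_iff P (Ne.symm hj)).2 ?_)
  let j' : Fin m := j
  have hjv : 2 ≤ j'.val := by
    have e0 : j'.val ≠ 0 := fun e => hj (Fin.ext e)
    have e1 : j'.val ≠ 1 := fun e => hj1 (Fin.ext e)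
    omega
  show (Φ.sim hm n0).s * (Φ.sim hm j').s * (Φ.sim hm n0).s⁻¹ * (Φ.sim hm j').s⁻¹ ∈ Φ.bor
  refine Φ.torus_le_bor fun b => ?_
  set a := (Φ.sim hm n0).π ((Φ.sim hm j').π b)
  have ha : (Φ.sim hm j').π ((Φ.sim hm n0).π a) = b := by simp only [a, (Φ.sim hm n0).invol, (Φ.sim hm j').invol]
  have h1 : Φ.Sends ((Φ.sim hm n0).s * (Φ.sim hm j').s) a b := by
    have := hsend n0 j' a
    rwa [sim_comm Φ hm h2 h3 hjv, ha] at this
  have h2' : Φ.Sends ((Φ.sim hm j').s * (Φ.sim hm n0).s) a b := by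
    have := hsend j' n0 a
    rwa [ha] at this
  have h3' := Φ.sends_trans (Φ.sends_symm h2') h1
  simpa [_root_.mul_inv_rev, mul_assoc] using h3'

theorem good_omega_of_eq {p : ℕ} (h : Cfsg.Omega F ⇑Q = eichGen Q)
    (hs : Good p (↥(eichGen Q) ⧸ center ↥(eichGen Q))) : Good p (Cfsg.POmega F ⇑Q) := by
  show Good p (↥(Cfsg.Omega F ⇑Q) ⧸ center ↥(Cfsg.Omega F ⇑Q))
  rw [h]; exact hs

variable (F) {p : ℕ} [Fact p.Prime] [CharP F p]

theorem good_pomegaOdd (m : ℕ) (hm : 3 ≤ m) (hodd : Odd (Fintype.card F)) :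
    Good p (Cfsg.POmega F (Cfsg.quadFormOdd m F)) := by
  have h2 : (2 : F) ≠ 0 := fun h2 => by
    have hc : ringChar F = 2 := CharP.ringChar_of_prime_eq_zero Nat.prime_two (by exact_mod_cast h2)
    have := (FiniteField.even_card_iff_char_two).1 hc
    rw [Nat.odd_iff] at hodd
    omega
  set Φ := frameOdd (F := F) m h2
  have hcard : Fintype.card (Unit ⊕ (Fin m ⊕ Fin m)) = 2 * m + 1 := by simp; omega
  have hcore : Φ.HasCore := ⟨Pi.single (.inl ()) 1, fun b => by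
    simp [Φ, frameOdd, coe_quadOdd, polar_quadOdd, Pi.single_apply], by simp⟩
  have hG := Orth.Good.of_two_ne_zero (quadOdd_nondeg m h2) h2
  have hle : eichGen (quadOdd m F) ≤ Cfsg.Omega F ⇑(quadOdd m F) :=
    eichGen_le_omega hG.nd (by omega) (.inl (exists_scalar_of_two_ne_zero h2))
  have hline : Φ.LineCore := fun x y z _ hy hz _ hy0 _ _ => by
    have hy1 : y (.inl ()) ≠ 0 := fun h => hy0 (by rw [frameOdd_off hy, h, zero_smul])
    refine ⟨z (.inl ()) / y (.inl ()), ?_⟩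
    have key : (z (.inl ()) / y (.inl ())) • (y (.inl ()) • (Pi.single (.inl ()) 1 : Unit ⊕ (Fin m ⊕ Fin m) → F)) =
        z (.inl ()) • Pi.single (.inl ()) 1 := by rw [smul_smul, div_mul_cancel₀ _ hy1]
    rw [← frameOdd_off hy, ← frameOdd_off hz] at key
    exact key.symm
  exact good_omega_of_eq (Q := quadOdd m F) (le_antisymm (omega_le_eichGen hG (by omega)) hle)
    (good_frame Φ (by omega) (Or.inl hcore) (by omega) (htor_of_good p Φ hline hG hle))

theorem good_pomegaPlus (m : ℕ) (hm : 4 ≤ m) : Good p (Cfsg.POmega F (Cfsg.quadFormPlus m F)) := by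
  set Φ := framePlus (F := F) m
  have hcard : Fintype.card (Fin m ⊕ Fin m) = 2 * m := by simp; omega
  have hline : Φ.LineCore := fun x y z hx _ _ hx0 _ _ _ => absurd (framePlus_off hx) hx0
  have hG : Orth.Good (quadPlus _ F) := Orth.Good.of_card (quadPlus_nondeg m) (.inr (by omega))
  have heq := omega_eq_eichGen hG (by omega) (.inr (by omega))
  exact good_omega_of_eq (Q := quadPlus m F) heq
    (good_frame Φ (by omega) (Or.inr (by omega)) (by omega) (htor_of_good p Φ hline hG heq.ge))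

theorem good_pomegaMinus (m : ℕ) (hm : 4 ≤ m) {a b : F} (hab : Orth.Aniso a b) :
    Good p (Cfsg.POmega F (Cfsg.quadFormMinus (m - 1) F a b)) := by
  set Φ := frameMinus (m - 1) hab
  have hcard : Fintype.card ((Fin (m - 1) ⊕ Fin (m - 1)) ⊕ Fin 2) = 2 * (m - 1) + 2 := by simp; omega
  have hcore : Φ.HasCore := ⟨Pi.single (.inr 0) 1, fun c => by
    simp [Φ, frameMinus, coe_quadMinus, polar_quadMinus, Pi.single_apply], by simp⟩
  have hG : Orth.Good (quadMinus _ F a b) := Orth.Good.of_card (quadMinus_nondeg (m - 1) hab) (.inr (by omega))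
  have heq := omega_eq_eichGen hG (by omega) (.inr (by omega))
  exact good_omega_of_eq (Q := quadMinus (m - 1) F a b) heq
    (good_frame Φ (by omega) (Or.inl hcore) (by omega) (htor_of_good p Φ (frameMinus_line hab) hG heq.ge))

end Cfsg.Agent.LieMinimal
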