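import Cfsg.Agent.Lib.LieMinimal.DerivedTwo
import Cfsg.Agent.Lib.SylowInner.Tits

/-!
# A good chamber of the Tits group
-/

set_option autoImplicit false
set_option linter.unusedSectionVars false
set_option maxRecDepth 100000

namespace Cfsg.Agent.LieMinimal

open Cfsg.Lie Cfsg.Agent.Chev Cfsg.Agent.Twisted Cfsg.Agent.Twisted.F4
open Cfsg.Agent.Seitz Cfsg.Agent.RGD Cfsg.Agent.TitsDegree

theorem tits_odd : ¬ 2 ∣ RT.Upos.relIndex RT.G := by
  have h := (RT.Upos.subgroupOf RT.G).card_mul_index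
  rw [Nat.card_congr (Subgroup.subgroupOfEquivOfLe (RT.Upos_le_B.trans RT.B_le_G)).toEquiv,
    Twisted.F4.card_Upos Seitz.card_zmodTwo, card_G] at h
  show ¬ 2 ∣ (RT.Upos.subgroupOf RT.G).index
  intro hd
  obtain ⟨k, hk⟩ := hd
  rw [hk] at h
  norm_num at h
  omega

theorem tits_prime (i : Fin 2) : (1 + Nat.card ↥(RT.U (RT.simple i))).Prime := by
  rw [card_U_simple]
  split_ifs <;> norm_num

theorem tits_big (i : Fin 2) :
    Nat.card ↥RT.Upos * (1 + Nat.card ↥(RT.U (RT.simple i))) < Nat.card ↥RT.G := by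
  rw [card_U_simple, card_G, Twisted.F4.card_Upos Seitz.card_zmodTwo]
  split_ifs <;> norm_num

theorem tits_out (j : Fin 2) : ¬ RT.Udel j ≤ TT := fun h =>
  SylowInner.Tits.not_Upos_le ((upos_or_hyp j).trans (sup_le inf_le_right h))

theorem tits_over (M : Subgroup (GL chevF4.Idx (ZMod 2))) (hM : M ≤ TT) (hlt : RT.Upos ⊓ TT < M) :
    ∃ i, ∃ g ∈ M, g ∈ para RT {id i} ∧ g ∉ RT.Upos := by
  rcases gl_overgroup hM hlt.le with rfl | ⟨j, hj⟩
  · have hlt' : S0 < P 0 := lt_of_le_of_ne (S0_le 0) fun h => by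
      have h' := card_P 0
      rw [← h, card_S0] at h'
      norm_num at h'
    obtain ⟨g, hg, hgS⟩ := SetLike.exists_of_lt hlt'
    exact ⟨0, g, g.2, hg, hgS⟩
  · obtain ⟨g, hg, hgU⟩ := SetLike.exists_of_lt hlt
    exact ⟨j, g, hg, hj hg, fun h => hgU (Subgroup.mem_inf.2 ⟨h, hM hg⟩)⟩

theorem tits_sym (σ : MulAut ↥TT) :
    (half RT TT (id (0 : Fin 2))).map σ.toMonoidHom ≠ half RT TT (id (1 : Fin 2)) := by
  intro h
  have h1 : Nat.card ↥(P 0) = Nat.card ↥(P 1) :=
    (Subgroup.card_map_of_injective (f := σ.toMonoidHom) σ.injective).symm.trans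
      (congrArg (fun H : Subgroup ↥TT => Nat.card ↥H) h)
  rw [card_P, card_P] at h1
  norm_num at h1

theorem tits_index (j : Fin 2) : j = id (0 : Fin 2) ∨ j = id (1 : Fin 2) := (SylowInner.Tits.two_cases j).symm

theorem good_TT : Good 2 ↥TT := by
  haveI : Fact (Nat.Prime 2) := ⟨Nat.prime_two⟩
  exact good_derived RT H_eq_bot TT_le relIndex_TT id tits_index tits_out
    SylowInner.Tits.isPGroup_Upos tits_odd tits_prime tits_big tits_over (Or.inr tits_sym)

theorem good_of_nonempty {p : ℕ} [Fact p.Prime] {K H H' : Type*} [Group K] [Group H] [Group H'] [Finite H']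
    (hs : Good p H') (h : Nonempty (K ≃* H)) (h' : Nonempty (H ≃* H')) : Good p K :=
  h.elim fun e => h'.elim fun e' => Good.of_equiv (e.trans e') hs

theorem good_isoTits {K : Type*} [Group K] (h : IsoTits K) : Good 2 K :=
  haveI : Fact (Nat.Prime 2) := ⟨Nat.prime_two⟩
  good_of_nonempty (H := TitsGroup) (H' := ↥TT) good_TT h TitsDegree.exists_equiv

end Cfsg.Agent.LieMinimal
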