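import Cfsg.Agent.Lib.LieMinimal.Rooted
import Cfsg.Agent.Lib.UnitaryBN.Pair
import Cfsg.Agent.Lib.UnitaryBN.Steinberg

/-!
# Good chambers of unitary groups

* `good_psu`; in dimensions four and five the minimal parabolics have different indices over the Borel subgroup.
-/

set_option autoImplicit false
set_option linter.unusedSectionVars false

namespace Cfsg.Agent.LieMinimal

open Subgroup Cfsg.Agent.Unitary Cfsg.Agent.UFus Cfsg.Agent.UnitaryBN

section Index

variable {G T : Type*} [Group G] [Finite G] [Finite T] {B P : Subgroup G} (f : T → G)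

theorem relIndex_le_of_cover (hBP : B ≤ P) (hf : ∀ g ∈ P, g ∈ B ∨ ∃ t, ∃ b ∈ B, g = f t * b) :
    B.relIndex P ≤ Nat.card T + 1 := by
  classical
  haveI := Fintype.ofFinite T
  let φ : Option T → ↥P ⧸ B.subgroupOf P := fun o =>
    o.elim (QuotientGroup.mk 1) fun t => if h : f t ∈ P then QuotientGroup.mk ⟨f t, h⟩ else QuotientGroup.mk 1
  have hφ : Function.Surjective φ := by
    intro y
    refine QuotientGroup.induction_on y fun g => ?_
    rcases hf g g.2 with h | ⟨t, b, hb, e⟩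
    · exact ⟨none, QuotientGroup.eq.2 (mem_subgroupOf.2 (by simpa using h))⟩
    · by_cases ht : f t ∈ P
      · refine ⟨some t, ?_⟩
        simp only [φ, Option.elim_some, dif_pos ht]
        refine QuotientGroup.eq.2 (mem_subgroupOf.2 ?_)
        show (f t)⁻¹ * (g : G) ∈ B
        rw [e, inv_mul_cancel_left]
        exact hb
      · exact absurd (by simpa [e] using mul_mem g.2 (inv_mem (hBP hb))) ht
  refine (Nat.card_le_card_of_surjective φ hφ).trans (le_of_eq ?_)
  exact Finite.card_option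

theorem le_relIndex_of_inj (hP : ∀ t, f t ∈ P) (hf : ∀ t t', (f t)⁻¹ * f t' ∈ B → t = t') :
    Nat.card T ≤ B.relIndex P :=
  Nat.card_le_card_of_injective (fun t => (QuotientGroup.mk (⟨f t, hP t⟩ : ↥P) : ↥P ⧸ B.subgroupOf P))
    fun t t' e => hf t t' (mem_subgroupOf.1 (QuotientGroup.eq.1 e))

end Index

variable {F : Type} [Field F] [Fintype F] {q n m : ℕ} (hF : Fintype.card F = q ^ 2) (Φ : Frame n F q m)
include hF

theorem parabolic_eq_Pj (j : Fin m) :
    (rankOne hF Φ).pair.parabolic {simp' hF Φ j} = Pj hF Φ j := by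
  refine le_antisymm (sup_le (borel_le_Pj hF Φ j)
    ((closure_le _).2 (Set.singleton_subset_iff.2 (simp_mem_Pj hF Φ j)))) fun g hg => ?_
  have hB : Φ.borel hF ≤ (rankOne hF Φ).pair.parabolic {simp' hF Φ j} :=
    BN.le_parabolic (rankOne hF Φ).pair _
  rcases UnitaryBN.key hF Φ j hg with h | ⟨x, hx, c, hc, rfl⟩
  · exact hB h
  · exact mul_mem (mul_mem (hB (Xset_le hF Φ j hx)) (BN.subset_parabolic _ _ rfl)) (hB hc)

theorem u_eq_zero (h : n < 2 * m + 1) : Φ.u = 0 := by
  refine Φ.hu.resolve_right fun h1 => ?_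
  have H := hermForm_isHerm hF n
  let v : Ix m ⊕ Unit → (Fin n → F) := Sum.elim (vec Φ) fun _ => Φ.u
  let L : (Fin n → F) →ₗ[F] (Ix m ⊕ Unit → F) :=
    { toFun := fun x a => Cfsg.hermForm n F q x (Sum.elim (fun b => vec Φ b.swap) (fun _ => Φ.u) a)
      map_add' := fun x y => funext fun a => H.add_left _ _ _
      map_smul' := fun c x => funext fun a => H.smul_left _ _ _ }
  have hL : ∀ a, L (v a) = Pi.single a 1 := by
    classical
    intro a
    funext b
    rcases a with a | a <;> rcases b with b | b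
    · show Cfsg.hermForm n F q (vec Φ a) (vec Φ b.swap) = _
      rw [herm_vec hF Φ]
      by_cases hab : a = b
      · subst hab; simp
      · have : Sum.swap b ≠ Sum.swap a := fun e => hab (by simpa using (congrArg Sum.swap e).symm)
        simp [hab, Ne.symm hab, Pi.single_apply, this]
    · show Cfsg.hermForm n F q (vec Φ a) Φ.u = _
      simp [herm_vec_u hF Φ]
    · show Cfsg.hermForm n F q Φ.u (vec Φ b.swap) = _
      simp [herm_u_vec hF Φ]
    · show Cfsg.hermForm n F q Φ.u Φ.u = _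
      simp [h1]
  have hsurj : Function.Surjective L := by
    rw [← LinearMap.range_eq_top, eq_top_iff, ← Pi.basisFun F (Ix m ⊕ Unit) |>.span_eq, Submodule.span_le]
    rintro _ ⟨a, rfl⟩
    exact ⟨v a, by rw [hL, Pi.basisFun_apply]⟩
  have := LinearMap.finrank_le_finrank_of_surjective hsurj
  simp at this
  omega

theorem u_ne_zero (h : 2 * m < n) : Φ.u ≠ 0 := by
  intro h0
  have H := hermForm_isHerm hF n
  let L : (Fin n → F) →ₗ[F] (Ix m → F) :=
    { toFun := fun x a => Cfsg.hermForm n F q x (vec Φ a)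
      map_add' := fun x y => funext fun a => H.add_left _ _ _
      map_smul' := fun c x => funext fun a => H.smul_left _ _ _ }
  have hinj : Function.Injective L := by
    rw [← LinearMap.ker_eq_bot, LinearMap.ker_eq_bot']
    intro x hx
    rw [eq_smul_u hF Φ (congrFun hx), h0, smul_zero]
  have := LinearMap.finrank_le_finrank_of_injective hinj
  simp at this
  omega

theorem relIndex_pair_le (j : Fin m) (h : j.val + 1 < m) :
    (Φ.borel hF).relIndex (Pj hF Φ j) ≤ q ^ 2 + 1 := by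
  refine (relIndex_le_of_cover (hBP := borel_le_Pj hF Φ j) (fun t => xe hF Φ (show j ≠ ⟨j.val + 1, h⟩ from fun e => by
    simp [Fin.ext_iff] at e) t * simp' hF Φ j) fun g hg => ?_).trans (by rw [Nat.card_eq_fintype_card, hF])
  rcases UnitaryBN.key hF Φ j hg with h' | ⟨x, hx, c, hc, e⟩
  · exact Or.inl h'
  · unfold Xset at hx
    rw [dif_pos h] at hx
    obtain ⟨t, ok, rfl⟩ := hx
    exact Or.inr ⟨t, c, hc, e⟩

theorem relIndex_end_le (hu : Φ.u = 0) (j : Fin m) (h : ¬ j.val + 1 < m) :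
    (Φ.borel hF).relIndex (Pj hF Φ j) ≤ q + 1 := by
  have ok : ∀ c : {c : F // c + c ^ q = 0}, Ok q (Φ.e j) (0 : Fin n → F) c.1 := fun c =>
    ⟨Φ.ee j j, (hermForm_isHerm hF n).zero_left _, by rw [c.2, (hermForm_isHerm hF n).zero_left, neg_zero]⟩
  refine (relIndex_le_of_cover (hBP := borel_le_Pj hF Φ j) (fun c => eich hF (ok c) * simp' hF Φ j) fun g hg => ?_).trans
    (by rw [card_trace_zero hF])
  rcases UnitaryBN.key hF Φ j hg with h' | ⟨x, hx, c, hc, e⟩
  · exact Or.inl h'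
  · unfold Xset at hx
    rw [dif_neg h] at hx
    obtain ⟨b, d, okd, rfl⟩ := hx
    have hb : b • Φ.u = 0 := by rw [hu, smul_zero]
    have hd : d + d ^ q = 0 := by rw [okd.trace, hb, (hermForm_isHerm hF n).zero_left, neg_zero]
    refine Or.inr ⟨⟨d, hd⟩, c, hc, ?_⟩
    rw [e]
    congr 2
    exact eich_congr hF _ _ rfl hb rfl

theorem sq_le_relIndex_first (j : Fin m) (h : j.val + 1 < m) (h0 : j.val = 0) :
    q ^ 2 ≤ (Φ.borel hF).relIndex (Pj hF Φ j) := by
  have H := hermForm_isHerm hF n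
  set k : Fin m := ⟨j.val + 1, h⟩
  have hjk : j ≠ k := fun e => by simp [k, Fin.ext_iff] at e
  rw [← hF, ← Nat.card_eq_fintype_card]
  refine le_relIndex_of_inj (fun t => xe hF Φ hjk t * simp' hF Φ j) (fun t => mul_mem
    (borel_le_Pj hF Φ j (Xset_le hF Φ j (by unfold Xset; rw [dif_pos h]; exact ⟨t, ok_swap hF Φ hjk t, rfl⟩)))
    (simp_mem_Pj hF Φ j)) fun t t' hB => ?_
  obtain ⟨h1, -⟩ := suAct_swapEl hF Φ hjk
  have hs : simp' hF Φ j = swapEl hF Φ hjk := dif_pos h
  have hy : ∀ t, suAct (xe hF Φ hjk t * simp' hF Φ j) (Φ.e j) = -(Φ.e k + t ^ q • Φ.e j) := fun t => by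
    rw [suAct_mul, hs, h1, suAct_swapEich hF Φ hjk]
    simp [H.neg_left, Φ.ef, Φ.ee, hjk]
    abel
  have hlow := (mem_borel_iff hF Φ).1 hB (j.val + 1) (show j.val + 1 ≤ m by omega) _
    (Φ.e_mem_low hF (Nat.lt_succ_self _))
  set c := suAct ((xe hF Φ hjk t * simp' hF Φ j)⁻¹ * (xe hF Φ hjk t' * simp' hF Φ j)) (Φ.e j) with hc
  have hce : c = Cfsg.hermForm n F q c (Φ.f j) • Φ.e j := by
    conv_lhs => rw [Φ.low_eq hF hlow]
    refine Finset.sum_eq_single j (fun i _ hi => ?_) (fun h => absurd (Finset.mem_univ _) h)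
    rw [hlow.2.2 i (by
      rcases Nat.lt_or_ge i.val (j.val + 1) with h2 | h2
      · exact absurd (Fin.ext (by omega)) hi
      · exact h2), zero_smul]
  have e : suAct (xe hF Φ hjk t' * simp' hF Φ j) (Φ.e j) = suAct (xe hF Φ hjk t * simp' hF Φ j) c := by
    rw [hc, ← suAct_mul, mul_inv_cancel_left]
  rw [hce, suAct_smul, hy, hy] at e
  set l := Cfsg.hermForm n F q c (Φ.f j)
  have e1 := congrArg (fun x => Cfsg.hermForm n F q x (Φ.f k)) e
  have e2 := congrArg (fun x => Cfsg.hermForm n F q x (Φ.f j)) e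
  simp [H.neg_left, H.add_left, H.smul_left, Φ.ef, hjk, Ne.symm hjk] at e1 e2
  rw [← e1, one_mul] at e2
  exact (pow_q_injective hF e2).symm

theorem lt_relIndex_end (hu : Φ.u ≠ 0) (j : Fin m) (h : ¬ j.val + 1 < m) (hm : m = 2) :
    q ^ 2 + 1 < (Φ.borel hF).relIndex (Pj hF Φ j) := by
  classical
  have H := hermForm_isHerm hF n
  have huu : Cfsg.hermForm n F q Φ.u Φ.u = 1 := Φ.hu.resolve_left hu
  obtain ⟨d, hd0, hd⟩ := exists_skew hF
  have hex : ∀ b : F, ∃ c : F, c + c ^ q = -Cfsg.hermForm n F q (b • Φ.u) (b • Φ.u) := fun b =>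
    exists_trace_eq hF (by rw [neg_pow_q hF, H.self_fixed])
  choose c0 hc0 using hex
  let cc : F × Bool → F := fun p => c0 p.1 + if p.2 then d else 0
  have ok : ∀ p : F × Bool, Ok q (Φ.e j) (p.1 • Φ.u) (cc p) := fun p =>
    ⟨Φ.ee j j, by rw [H.smul_left, Φ.ue hF, mul_zero], by
      rw [← hc0 p.1]
      rcases p with ⟨b, _ | _⟩
      · simp [cc]
      · simp only [cc, if_true]
        rw [add_pow_q hF, hd]
        ring⟩
  have hq : 2 ≤ q := two_le_q hF
  refine lt_of_lt_of_le ?_ (le_relIndex_of_inj (fun p => eich hF (ok p) * simp' hF Φ j) (fun p => mul_mem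
    (borel_le_Pj hF Φ j (Xset_le hF Φ j (by unfold Xset; rw [dif_neg h]; exact ⟨_, _, ok p, rfl⟩)))
    (simp_mem_Pj hF Φ j)) fun p p' hB => ?_)
  · rw [Nat.card_prod, Nat.card_eq_fintype_card, hF, Nat.card_eq_fintype_card, Fintype.card_bool]
    have : 2 ^ 2 ≤ q ^ 2 := Nat.pow_le_pow_left hq 2
    omega
  obtain ⟨h1, -, -, h4⟩ := suAct_flipEl hF Φ j
  have hs : simp' hF Φ j = flipEl hF Φ j := dif_neg h
  set i₀ : Fin m := ⟨0, by omega⟩
  have hij : i₀ ≠ j := fun e => h (by rw [← e]; simp [i₀]; omega)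
  have hy : ∀ p, suAct (eich hF (ok p) * simp' hF Φ j) (Φ.e j) =
      (-(skew hF)⁻¹) • (Φ.f j + cc p • Φ.e j - p.1 • Φ.u) := fun p => by
    rw [suAct_mul, hs, h1, suAct_smul, suAct_eich]
    simp [H.smul_right, Φ.fu, Φ.fe hF]
  have hy0 : ∀ p, suAct (eich hF (ok p) * simp' hF Φ j) (Φ.e i₀) = Φ.e i₀ := fun p => by
    rw [suAct_mul, hs, (h4 i₀ hij).1, suAct_eich]
    simp [H.smul_right, Φ.eu, Φ.ee]
  have hlow := (mem_borel_iff hF Φ).1 hB (j.val + 1) (show j.val + 1 ≤ m by omega) _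
    (Φ.e_mem_low hF (Nat.lt_succ_self _))
  set c := suAct ((eich hF (ok p) * simp' hF Φ j)⁻¹ * (eich hF (ok p') * simp' hF Φ j)) (Φ.e j) with hc
  have hce : c = Cfsg.hermForm n F q c (Φ.f i₀) • Φ.e i₀ + Cfsg.hermForm n F q c (Φ.f j) • Φ.e j := by
    conv_lhs => rw [Φ.low_eq hF hlow]
    rw [← Finset.sum_pair hij (f := fun i => Cfsg.hermForm n F q c (Φ.f i) • Φ.e i)]
    refine (Finset.sum_subset (Finset.subset_univ _) fun i _ hi => absurd hi (not_not.2 ?_)).symm
    simp only [Finset.mem_insert, Finset.mem_singleton, Fin.ext_iff, i₀]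
    omega
  have e : suAct (eich hF (ok p') * simp' hF Φ j) (Φ.e j) = suAct (eich hF (ok p) * simp' hF Φ j) c := by
    rw [hc, ← suAct_mul, mul_inv_cancel_left]
  rw [hce, suAct_add, suAct_smul, suAct_smul, hy, hy, hy0] at e
  set l := Cfsg.hermForm n F q c (Φ.f j)
  set μ := -(skew hF : F)⁻¹
  have hμ : μ ≠ 0 := neg_ne_zero.2 (inv_ne_zero (skew_ne_zero hF))
  have e1 := congrArg (fun x => Cfsg.hermForm n F q x (Φ.e j)) e
  have e2 := congrArg (fun x => Cfsg.hermForm n F q x (Φ.f j)) e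
  have e3 := congrArg (fun x => Cfsg.hermForm n F q x Φ.u) e
  simp only [H.add_left, H.sub_left, H.smul_left, Φ.ee, Φ.ef, Φ.ff, Φ.fe hF, Φ.ue hF, Φ.uf hF, Φ.eu, Φ.fu, huu,
    if_neg hij, if_true, mul_zero, mul_one, add_zero, zero_add, sub_zero, zero_sub, mul_neg] at e1 e2 e3
  have hl : l = 1 := by
    have h5 : μ * (l - 1) = 0 := by linear_combination -e1
    exact sub_eq_zero.1 ((mul_eq_zero.1 h5).resolve_left hμ)
  rw [hl, one_mul] at e2 e3
  have hb : p.1 = p'.1 := mul_left_cancel₀ hμ (neg_inj.1 e3).symm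
  have hcc : cc p = cc p' := mul_left_cancel₀ hμ e2.symm
  refine Prod.ext hb ?_
  simp only [cc, hb] at hcc
  have hx := add_left_cancel hcc
  cases hp2 : p.2 <;> cases hp2' : p'.2 <;> rw [hp2, hp2'] at hx <;> simp at hx
  all_goals first | rfl | exact absurd hx hd0 | exact absurd hx.symm hd0

omit hF in
theorem sigmaIx_comm {i j : Fin m} (h : i.val + 1 < j.val) (a : Ix m) :
    sigmaIx i (sigmaIx j a) = sigmaIx j (sigmaIx i a) := by
  have h0 : i.val + 1 < m := by have := j.isLt; omega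
  rcases a with k | k <;> by_cases h2 : j.val + 1 < m <;>
    simp only [sigmaIx, h0, h2, dite_true, dite_false, Equiv.sumCongr_apply, Sum.map_inl, Sum.map_inr,
      Equiv.swap_apply_def, Fin.ext_iff] <;> split_ifs <;>
      (try simp only [Sum.inl.injEq, Sum.inr.injEq, reduceCtorEq, Fin.ext_iff] at *) <;> (try simp only [Sum.map_inl, Sum.map_inr, Equiv.swap_apply_def, Fin.ext_iff]) <;>
      (try split_ifs) <;> (try simp only [Sum.inl.injEq, Sum.inr.injEq, reduceCtorEq, Fin.ext_iff] at *) <;> omega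

theorem commutator_mem_torus {i j : Fin m} (h : i.val + 1 < j.val) :
    simp' hF Φ i * simp' hF Φ j * (simp' hF Φ i)⁻¹ * (simp' hF Φ j)⁻¹ ∈ torus hF Φ := fun b => by
  set a := sigmaIx i (sigmaIx j b)
  have ha : sigmaIx j (sigmaIx i a) = b := by
    simp only [a, sigmaIx_sigmaIx]
  have h1 : Sends Φ (simp' hF Φ i * simp' hF Φ j) a b := by
    have := (sends_simp hF Φ j a).trans (hF := hF) (sends_simp hF Φ i _)
    rwa [sigmaIx_comm h, ha] at this
  have h2 : Sends Φ (simp' hF Φ j * simp' hF Φ i) a b := by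
    have := (sends_simp hF Φ i a).trans (hF := hF) (sends_simp hF Φ j _)
    rwa [ha] at this
  have h3 := (h2.symm (hF := hF)).trans (hF := hF) h1
  simpa [_root_.mul_inv_rev, mul_assoc] using h3

set_option maxHeartbeats 800000 in
theorem good_psu {p : ℕ} [Fact p.Prime] [CharP F p] (hn : 3 ≤ n) (hex : ¬ (n = 3 ∧ q = 2)) :
    Good p (Cfsg.PSU n F q) := by
  classical
  haveI : Finite (Cfsg.SU n F q) := Subtype.finite
  obtain ⟨Φ⟩ := exists_frame hF n
  have hm1 : 1 ≤ n / 2 := by omega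
  set P := (rankOne hF Φ).pair
  set U := Φ.unip hF
  let S : Sylow p (Cfsg.SU n F q) :=
    { toSubgroup := U
      isPGroup' := Φ.isPGroup_unip hF p
      is_maximal' := fun {R} hR hle => Φ.eq_unip_of_isPGroup hF p hR hle }
  let s : Fin (n / 2) → P.S := fun j => ⟨simp' hF Φ j, j, rfl⟩
  have hs : Function.Bijective s := by
    refine ⟨fun i j e => sigmaIx_injective (Equiv.ext fun a => ?_), by rintro ⟨_, j, rfl⟩; exact ⟨j, rfl⟩⟩
    exact Sends.unique (hF := hF) (sends_simp hF Φ i a)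
      ((show simp' hF Φ i = simp' hF Φ j from congrArg Subtype.val e).symm ▸ sends_simp hF Φ j a)
  set C := Chamber.ofPair P U s hs (Φ.isPGroup_unip hF p) (Φ.unip_le_borel hF)
    (fun b hb u hu => Φ.borel_normalizes hF hb hu)
    (fun hd => S.not_dvd_index (hd.trans (relIndex_dvd_index_of_le (Φ.unip_le_borel hF))))
    (fun j hj => (rankOne hF Φ).not_mem (s j).2 (Φ.mem_borel_of_normalizes hF hj))
  set π := QuotientGroup.mk' (center (Cfsg.SU n F q))
  have hker : π.ker ≤ C.B := by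
    rw [QuotientGroup.ker_mk']
    exact (center_le_torus hF Φ (by omega)).trans (torus_le_borel hF Φ)
  have hπ : Function.Surjective π := QuotientGroup.mk'_surjective _
  refine ⟨C.map π hπ hker, fun hT => ?_, fun h1 => ?_, fun h3 => C.branch_map _ _ hker ?_, fun h2 _ => Or.inr ?_⟩
  · have h := (C.map π hπ hker).lt ⟨0, hm1⟩
    rw [hT] at h
    exact not_top_lt h
  · have h1' : n / 2 = 1 := h1
    obtain rfl : n = 3 := by omega
    exact Or.inr (Or.inl ⟨F, inferInstance, inferInstance, inferInstance, q, hF, fun e => hex ⟨rfl, e⟩,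
      ⟨MulEquiv.refl _⟩⟩)
  · have h3' : 3 ≤ n / 2 := h3
    have hσ : ∀ (i j : Fin (n / 2)) (a : Ix (n / 2)),
        Sends Φ (simp' hF Φ i * simp' hF Φ j) a (sigmaIx i (sigmaIx j a)) := fun i j a =>
      (sends_simp hF Φ j a).trans (hF := hF) (sends_simp hF Φ i _)
    have hne : ∀ (i j : Fin (n / 2)) (a : Ix (n / 2)), i ≠ j → sigmaIx i (sigmaIx j a) ≠ sigmaIx j (sigmaIx i a) →
        ¬ C.Perm i j := by
      intro i j a hij ha hP
      have hB := (perm_ofPair_iff P hij).1 hP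
      change simp' hF Φ i * simp' hF Φ j * (simp' hF Φ i)⁻¹ * (simp' hF Φ j)⁻¹ ∈ Φ.borel hF at hB
      have hmono := mul_mem (mul_mem (mul_mem (simp_mem_mono hF Φ i) (simp_mem_mono hF Φ j))
        (inv_mem (simp_mem_mono hF Φ i))) (inv_mem (simp_mem_mono hF Φ j))
      have ht := mono_inf_borel hF Φ hmono hB
      refine ha (Sends.unique (hF := hF) (hσ i j a) ?_)
      have := (hσ j i a).trans (hF := hF) (ht _)
      rwa [show simp' hF Φ i * simp' hF Φ j * (simp' hF Φ i)⁻¹ * (simp' hF Φ j)⁻¹ *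
        (simp' hF Φ j * simp' hF Φ i) = simp' hF Φ i * simp' hF Φ j by group] at this
    let n0 : Fin (n / 2) := ⟨0, by omega⟩
    let n1 : Fin (n / 2) := ⟨1, by omega⟩
    let n2 : Fin (n / 2) := ⟨2, by omega⟩
    have d01 : n1 ≠ n0 := fun e => by simp [n0, n1, Fin.ext_iff] at e
    have d12 : n1 ≠ n2 := fun e => by simp [n2, n1, Fin.ext_iff] at e
    have d02 : n0 ≠ n2 := fun e => by simp [n0, n2, Fin.ext_iff] at e
    have p10 : ¬ C.Perm n1 n0 := by
      refine hne n1 n0 (Sum.inl n0) d01 ?_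
      have h1 : 1 + 1 < n / 2 := by omega
      have h0 : 0 + 1 < n / 2 := by omega
      simp [sigmaIx, n0, n1, h1, h0, Equiv.swap_apply_def, Fin.ext_iff]
    have p12 : ¬ C.Perm n1 n2 := by
      refine hne n1 n2 (Sum.inl n1) d12 ?_
      have h1 : 1 + 1 < n / 2 := by omega
      by_cases h2 : 2 + 1 < n / 2 <;> simp [sigmaIx, n1, n2, h1, h2, Equiv.swap_apply_def, Fin.ext_iff]
    refine ⟨n0, n1, n0, n2, n1, d02, d01.symm, d12.symm, p10, p12, fun j hj hn' => ?_⟩
    by_contra hj1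
    refine hn' ((perm_ofPair_iff P (Ne.symm hj)).2 ?_)
    have hjv : (n0 : ℕ) + 1 < (j : ℕ) := by
      have e0 : (j : ℕ) ≠ 0 := fun e => hj (Fin.ext e)
      have e1 : (j : ℕ) ≠ 1 := fun e => hj1 (Fin.ext e)
      show 0 + 1 < (j : ℕ)
      omega
    exact torus_le_borel hF Φ (commutator_mem_torus hF Φ (i := n0) (j := j) hjv)
  · have h2' : n / 2 = 2 := h2
    refine C.asym_map_of_card π hπ hker (i := (⟨0, by omega⟩ : Fin (n / 2))) (j := (⟨1, by omega⟩ : Fin (n / 2)))
      fun e => ?_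
    change Nat.card ↥(P.parabolic {simp' hF Φ _}) = Nat.card ↥(P.parabolic {simp' hF Φ _}) at e
    rw [parabolic_eq_Pj hF Φ, parabolic_eq_Pj hF Φ] at e
    have hc : ∀ j, Nat.card ↥(Pj hF Φ j) = Nat.card ↥(Φ.borel hF) * (Φ.borel hF).relIndex (Pj hF Φ j) := fun j => by
      rw [← Nat.card_congr (subgroupOfEquivOfLe (borel_le_Pj hF Φ j)).toEquiv]
      exact (card_mul_index _).symm
    rw [hc, hc] at e
    have e' := Nat.eq_of_mul_eq_mul_left Nat.card_pos e
    have hq := two_le_q hF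
    by_cases h4 : n = 4
    · have hu := u_eq_zero hF Φ (by omega)
      have l1 := sq_le_relIndex_first hF Φ ⟨0, by omega⟩ (by simp; omega) rfl
      have l2 := relIndex_end_le hF Φ hu ⟨1, by omega⟩ (by simp; omega)
      rw [e'] at l1
      have := l1.trans l2
      nlinarith
    · have hu := u_ne_zero hF Φ (by omega)
      have l1 := relIndex_pair_le hF Φ ⟨0, by omega⟩ (by simp; omega)
      have l2 := lt_relIndex_end hF Φ hu ⟨1, by omega⟩ (by simp; omega) h2'
      rw [e'] at l1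
      omega

end Cfsg.Agent.LieMinimal
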