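import Cfsg.Agent.Lib.LieMinimal.Chev
import Cfsg.Agent.Lib.LieMinimal.Unitary
import Cfsg.Agent.Lib.LieMinimal.Orthogonal
import Cfsg.Agent.Lib.LieMinimal.AltSix
import Cfsg.Agent.Lib.LieMinimal.Tits
import Cfsg.Agent.Lib.LieMinimal.GTwo
import Cfsg.Prelude.Def_EvenType
import Cfsg.Prelude.Def_LieTypeChar

/-!
# Every simple group of Lie type has a good chamber
-/

set_option autoImplicit false
set_option linter.unusedSectionVars false

namespace Cfsg.Agent.LieMinimal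

open Cfsg Cfsg.Lie

set_option maxHeartbeats 1000000 in
theorem good_lieType {G : Type*} [Group G] {p : ℕ} [hp : Fact p.Prime] (hG : IsLieTypeChar p G) : Good p G := by
  rcases hG with h | h | h | h | h | h | h | h | ⟨rfl, h⟩ | ⟨rfl, h⟩ | ⟨rfl, h⟩
  · obtain ⟨F, _, _, _, n, hn, h4, ⟨e⟩⟩ := h
    haveI : Finite (Matrix.ProjectiveSpecialLinearGroup (Fin n) F) := inferInstance
    exact .of_equiv e (good_psl F n hn h4)
  · obtain ⟨F, _, _, _, m, hm, h3, ⟨e⟩⟩ := h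
    haveI : NeZero m := ⟨by omega⟩
    haveI : Finite (Matrix.symplecticGroup (Fin m) F) := Subtype.finite
    exact .of_equiv e (good_psp F m hm h3)
  · obtain ⟨F, _, _, _, n, q, hF, hn, hex, ⟨e⟩⟩ := h
    haveI : Finite (Cfsg.SU n F q) := Subtype.finite
    exact .of_equiv e (good_psu hF hn hex)
  · obtain ⟨F, _, _, _, m, hm, hodd, ⟨e⟩⟩ := h
    exact .of_equiv e (good_pomegaOdd F m hm hodd)
  · obtain ⟨F, _, _, _, m, hm, ⟨e⟩⟩ := h
    exact .of_equiv e (good_pomegaPlus F m hm)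
  · obtain ⟨F, _, _, _, m, a, b, hm, hab, ⟨e⟩⟩ := h
    exact .of_equiv e (good_pomegaMinus F m hm hab)
  · obtain ⟨F, _, _, _, ⟨-, ⟨e⟩⟩ | ⟨⟨e⟩⟩ | ⟨⟨e⟩⟩ | ⟨⟨e⟩⟩ | ⟨⟨e⟩⟩⟩ := h
    · exact .of_equiv e good_g2
    · exact .of_equiv e (good_f4 F)
    · exact .of_equiv e (good_e6 F)
    · exact .of_equiv e (good_e7 F)
    · exact .of_equiv e (good_e8 F)
  · obtain ⟨K, _, _, _, q, hq, h⟩ := h
    rcases h with ⟨hK, ⟨e⟩⟩ | ⟨hK, ⟨e⟩⟩
    · exact .of_equiv e (good_twistedE6 hq hK)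
    · exact .of_equiv e (good_twistedD4 hq hK)
  · obtain ⟨F, _, _, m, hm, hF, ⟨e⟩⟩ := h
    exact .of_equiv e (good_sz hm hF)
  · obtain ⟨K, _, _, m, -, hK, ⟨e⟩⟩ := h
    haveI := Cfsg.Agent.Twisted.F4.charP_f4 hK
    exact .of_equiv e (good_twistedF4 hK)
  · obtain ⟨K, _, _, m, hm, hK, ⟨e⟩⟩ := h
    exact .of_equiv e (good_ree hm hK)

theorem good_chevSimple {G : Type*} [Group G] {p : ℕ} [hp : Fact p.Prime] (hG : IsChevSimple p G) : Good p G := by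
  rcases hG with h | ⟨rfl, h | h | h⟩ | ⟨rfl, F, _, _, hF, ⟨e⟩⟩
  · exact good_lieType h
  · obtain ⟨e⟩ := h
    exact .of_equiv e AltSix.good
  · exact GTwo.good_isoUThree h
  · exact good_isoTits h
  · haveI : Finite (Matrix.ProjectiveSpecialLinearGroup (Fin 2) F) := inferInstance
    exact .of_equiv e (good_pslEight hF)

end Cfsg.Agent.LieMinimal
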