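import Cfsg.Agent.Lib.LieMinimal.Chamber
import Cfsg.Prelude.Def_AlmostLie
import Cfsg.Prelude.Def_Classical

/-!
# The conclusion for groups with a good chamber

* `Good p K` : a chamber that is of rank one only in the Lie rank one case and is asymmetric otherwise, apart from
  `L₃(2^e)`, `Sp₄(2^e)` and `A₆`;
* `Good.of_equiv`, `Good.conclusion`.
-/

set_option autoImplicit false
set_option linter.unusedSectionVars false

namespace Cfsg.Agent.LieMinimal

open Subgroup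

/-- The groups with a symmetric diagram of rank two. -/
def Exc (K : Type*) [Group K] : Prop :=
  (∃ (F : Type) (_ : Field F) (_ : Fintype F) (_ : CharP F 2),
      Nonempty (K ≃* Matrix.ProjectiveSpecialLinearGroup (Fin 3) F)) ∨
    (∃ (F : Type) (_ : Field F) (_ : Fintype F) (_ : CharP F 2), 4 ≤ Fintype.card F ∧ Nonempty (K ≃* Cfsg.PSp 2 F)) ∨
    Nonempty (K ≃* ↥(alternatingGroup (Fin 6)))

/-- A chamber with the properties needed for `p`-minimal overgroups. -/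
def Good (p : ℕ) (K : Type*) [Group K] : Prop :=
  ∃ C : Chamber p K, C.B ≠ ⊤ ∧ (C.r = 1 → Cfsg.IsLieRankOneChar p K) ∧ (3 ≤ C.r → C.Branch) ∧
    (C.r = 2 → p = 2 → Exc K ∨ C.Asym)

theorem isLieRankOneChar_of_equiv {p : ℕ} {K H : Type*} [Group K] [Group H] (e : K ≃* H)
    (h : Cfsg.IsLieRankOneChar p H) : Cfsg.IsLieRankOneChar p K := by
  rcases h with ⟨F, i1, i2, i3, h, ⟨f⟩⟩ | ⟨F, i1, i2, i3, q, h, h', ⟨f⟩⟩ | ⟨h, F, i1, i2, m, h1, h2, ⟨f⟩⟩ |
    ⟨h, ⟨F, i1, i2, m, h1, h2, ⟨f⟩⟩ | ⟨F, i1, i2, h1, ⟨f⟩⟩⟩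
  · exact Or.inl ⟨F, i1, i2, i3, h, ⟨e.trans f⟩⟩
  · exact Or.inr (Or.inl ⟨F, i1, i2, i3, q, h, h', ⟨e.trans f⟩⟩)
  · exact Or.inr (Or.inr (Or.inl ⟨h, F, i1, i2, m, h1, h2, ⟨e.trans f⟩⟩))
  · exact Or.inr (Or.inr (Or.inr ⟨h, Or.inl ⟨F, i1, i2, m, h1, h2, ⟨e.trans f⟩⟩⟩))
  · exact Or.inr (Or.inr (Or.inr ⟨h, Or.inr ⟨F, i1, i2, h1, ⟨e.trans f⟩⟩⟩))

theorem exc_of_equiv {K H : Type*} [Group K] [Group H] (e : K ≃* H) (h : Exc H) : Exc K := by
  rcases h with ⟨F, i1, i2, i3, ⟨f⟩⟩ | ⟨F, i1, i2, i3, h, ⟨f⟩⟩ | h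
  · exact Or.inl ⟨F, i1, i2, i3, ⟨e.trans f⟩⟩
  · exact Or.inr (Or.inl ⟨F, i1, i2, i3, h, ⟨e.trans f⟩⟩)
  · exact Or.inr (Or.inr (h.map e.trans))

theorem Chamber.asym_map_equiv {p : ℕ} [Fact p.Prime] {G H : Type*} [Group G] [Finite G] [Group H]
    (C : Chamber p G) (e : G ≃* H) (hker : e.toMonoidHom.ker ≤ C.B) (h : C.Asym) :
    (C.map e.toMonoidHom e.surjective hker).Asym := by
  obtain ⟨i, j, h⟩ := h
  refine ⟨i, j, fun σ hU hP => h ((MulAut.congr e.symm) σ) ?_ ?_⟩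
  · refine (map_injective (f := e.toMonoidHom) e.injective) ?_
    rw [Subgroup.map_map]
    refine Eq.trans ?_ hU
    show _ = Subgroup.map σ.toMonoidHom (C.U.map e.toMonoidHom)
    rw [Subgroup.map_map]
    congr 1
    ext x
    simp [MulAut.congr]
  · refine (map_injective (f := e.toMonoidHom) e.injective) ?_
    rw [Subgroup.map_map]
    refine Eq.trans ?_ hP
    show _ = Subgroup.map σ.toMonoidHom ((C.P i).map e.toMonoidHom)
    rw [Subgroup.map_map]
    congr 1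
    ext x
    simp [MulAut.congr]

theorem Good.of_equiv {p : ℕ} [Fact p.Prime] {K H : Type*} [Group K] [Group H] [Finite H] (e : K ≃* H)
    (h : Good p H) : Good p K := by
  obtain ⟨C, hB, h1, h3, h2⟩ := h
  have hker : e.symm.toMonoidHom.ker ≤ C.B := by
    rw [(MonoidHom.ker_eq_bot_iff _).2 e.symm.injective]; exact bot_le
  refine ⟨C.map e.symm.toMonoidHom e.symm.surjective hker, fun hT => hB ?_,
    fun hr => isLieRankOneChar_of_equiv e (h1 hr), fun hr => C.branch_map _ _ hker (h3 hr),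
    fun hr hp => (h2 hr hp).imp (exc_of_equiv e) (C.asym_map_equiv e.symm hker)⟩
  replace hT : C.B.map e.symm.toMonoidHom = ⊤ := hT
  have := congrArg (comap e.symm.toMonoidHom) hT
  rwa [comap_map_eq_self_of_injective e.symm.injective, comap_top] at this

/-- The statement for `p`-minimal groups. -/
theorem Good.conclusion {p : ℕ} [Fact p.Prime] {X : Type*} [Group X] [Finite X] {K : Subgroup X} [K.Normal]
    (hX : Cfsg.IsPMinimal p X) (h : Good p ↥K) (U : Sylow p ↥K) :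
    IsCoatom (normalizer ((((U : Subgroup ↥K)).map K.subtype : Subgroup X) : Set X)) ∧
      (Cfsg.IsLieRankOneChar p ↥K ∨ (p = 2 ∧ K ≠ ⊤ ∧ Exc ↥K)) := by
  obtain ⟨C₀, hB₀, h1, h3, h2⟩ := h
  obtain ⟨g, hg⟩ := MulAction.exists_smul_eq ↥K C₀.sylow U
  have hker : (MulAut.conj g).toMonoidHom.ker ≤ C₀.B := by
    rw [(MonoidHom.ker_eq_bot_iff _).2 (MulAut.conj g).injective]; exact bot_le
  set C := C₀.map (MulAut.conj g).toMonoidHom (MulAut.conj g).surjective hker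
  have hCU : C.U = (U : Subgroup ↥K) := by rw [← hg]; rfl
  have hCB : C.B ≠ ⊤ := fun hT => hB₀ (by
    replace hT : C₀.B.map (MulAut.conj g).toMonoidHom = ⊤ := hT
    have := congrArg (comap (MulAut.conj g).toMonoidHom) hT
    rwa [comap_map_eq_self_of_injective (MulAut.conj g).injective, comap_top] at this)
  obtain ⟨hmax, htr, ⟨k, hk⟩, htop⟩ := LieMinimal.conclusion hX C hCB
  rw [hCU] at hmax
  refine ⟨hmax, ?_⟩
  have hr : C.r ≠ 0 := fun h0 => hCB (by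
    haveI : IsEmpty (Fin C.r) := h0 ▸ Fin.isEmpty
    simpa using C.sup_eq)
  by_cases hr1 : C.r = 1
  · exact Or.inl (h1 hr1)
  by_cases hr3 : 3 ≤ C.r
  · exact absurd (C₀.branch_map _ _ hker (h3 hr3)) (C.not_branch htr)
  have hr2 : C.r = 2 := by omega
  have hp : p = 2 := by
    have hk0 : k ≠ 0 := fun e => by rw [e, pow_zero] at hk; omega
    exact (Nat.prime_dvd_prime_iff_eq (Fact.out : p.Prime) Nat.prime_two).1 (by
      rw [← hr2, hk]; exact dvd_pow_self p hk0)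
  refine Or.inr ⟨hp, htop (by omega), (h2 hr2 hp).resolve_right fun hA => ?_⟩
  obtain ⟨i, j, hij⟩ := C₀.asym_map_equiv (MulAut.conj g) hker hA
  obtain ⟨σ, h4, h5⟩ := htr i j
  exact hij σ h4 h5

end Cfsg.Agent.LieMinimal
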