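import Cfsg.Agent.Lib.LieMinimal.Chamber
import Cfsg.Agent.Lib.RGD.BN
import Cfsg.Agent.Lib.RGD.Core
import Cfsg.Agent.Lib.BN.Simple

/-!
# Minimal parabolic subgroups of (B,N)-pairs and of root group data

* `Chamber.ofPair`, `perm_ofPair_iff` : two minimal parabolics permute iff the generators commute in `W`;
* `Chamber.ofRGD`, `perm_ofRGD_iff`, `card_ofRGD` : the same for root group data.
-/

set_option autoImplicit false
set_option linter.unusedSectionVars false

namespace Cfsg.Agent.LieMinimal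

open Subgroup

section Pair

variable {G : Type*} [Group G] [Finite G] (P : Cfsg.BNPair G)

theorem mem_parabolic_single {s : P.S} {g : G} (hg : g ∈ P.parabolic {(s : G)}) :
    g ∈ BN.C P 1 ∨ g ∈ BN.C P (BN.sigma P s) := by
  have hJ : ({(s : G)} : Set G) ⊆ P.S := Set.singleton_subset_iff.2 s.2
  obtain ⟨w, hw, hgw⟩ := (BN.mem_parabolic_iff P hJ).1 hg
  have key : ∀ v ∈ BN.WJ P {(s : G)}, v = 1 ∨ v = BN.sigma P s := by
    intro v hv
    induction hv using Subgroup.closure_induction with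
    | mem x hx =>
      obtain ⟨t, ht, rfl⟩ := hx
      exact Or.inr (congrArg _ (Subtype.ext ht))
    | one => exact Or.inl rfl
    | mul x y _ _ hx hy =>
      rcases hx with rfl | rfl <;> rcases hy with rfl | rfl <;> simp [BN.sigma_sq]
    | inv x _ hx =>
      rcases hx with rfl | rfl <;> simp [BN.sigma_inv']
  rcases key w hw with rfl | rfl
  exacts [Or.inl hgw, Or.inr hgw]

theorem C_le_parabolic (s : P.S) {g : G} (hg : g ∈ BN.C P (BN.sigma P s)) : g ∈ P.parabolic {(s : G)} :=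
  BN.C_subset_of_mem P (BN.le_parabolic P {(s : G)}) (BN.self_mem_C P (P.subset s.2))
    (BN.subset_parabolic P {(s : G)} rfl) hg

variable {p : ℕ} [Fact p.Prime] {r : ℕ} (U : Subgroup G) (s : Fin r → P.S)

/-- The chamber of a (B,N)-pair. -/
noncomputable def Chamber.ofPair (hs : Function.Bijective s) (hUp : IsPGroup p ↥U) (hUB : U ≤ P.B)
    (hUn : ∀ b ∈ P.B, ∀ u ∈ U, b * u * b⁻¹ ∈ U) (hidx : ¬ p ∣ U.relIndex P.B)
    (hmove : ∀ i, (s i : G) ∉ normalizer (U : Set G)) : Chamber p G where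
  r := r
  U := U
  B := P.B
  P i := P.parabolic {(s i : G)}
  pgrp := hUp
  index := hidx
  normalizer_eq := by
    have hB : P.B ≤ normalizer (U : Set G) := fun b hb => mem_normalizer_of_map_le (hUn b hb)
    rw [BN.eq_parabolic_of_le P hB]
    have h : P.S ∩ (normalizer (U : Set G) : Set G) = ∅ := by
      refine Set.eq_empty_iff_forall_notMem.2 fun x hx => ?_
      obtain ⟨i, hi⟩ := hs.2 ⟨x, hx.1⟩
      refine hmove i ?_
      rw [hi]
      exact hx.2
    rw [h, Cfsg.BNPair.parabolic, Subgroup.closure_empty, sup_bot_eq]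
  lt i := by
    refine lt_of_le_of_ne (BN.le_parabolic P _) fun e => hmove i (mem_normalizer_of_map_le (hUn _ ?_))
    rw [e]
    exact BN.subset_parabolic P _ rfl
  exists_le M hM := by
    have h : M = P.parabolic (P.S ∩ M) := BN.eq_parabolic_of_le P hM.le
    have hne : (P.S ∩ (M : Set G)).Nonempty := by
      rw [Set.nonempty_iff_ne_empty]
      intro he
      rw [he, Cfsg.BNPair.parabolic, Subgroup.closure_empty, sup_bot_eq] at h
      exact hM.ne' h
    obtain ⟨x, hx⟩ := hne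
    obtain ⟨i, hi⟩ := hs.2 ⟨x, hx.1⟩
    refine ⟨i, sup_le hM.le ((closure_le _).2 (Set.singleton_subset_iff.2 ?_))⟩
    rw [hi]
    exact hx.2
  sup_eq := by
    rw [eq_top_iff, BN.eq_parabolic_of_le P (le_top : P.B ≤ ⊤), Cfsg.BNPair.parabolic]
    refine sup_le le_sup_left ((closure_le _).2 fun x hx => ?_)
    obtain ⟨i, hi⟩ := hs.2 ⟨x, hx.1⟩
    refine mem_sup_right (mem_iSup_of_mem i (BN.subset_parabolic P _ ?_))
    rw [hi]
    rfl
  ne_top i h := by
    have hle : (P.B ⊔ ⨆ (j) (_ : j ≠ i), P.parabolic {(s j : G)}) ≤ P.parabolic (P.S \ {(s i : G)}) :=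
      sup_le (BN.le_parabolic P _) (iSup₂_le fun j hj => BN.parabolic_mono P
        (Set.singleton_subset_iff.2 ⟨(s j).2, fun e => hj (hs.1 (Subtype.ext e))⟩))
    rw [h] at hle
    have h2 : (s i : G) ∈ P.S \ {(s i : G)} :=
      BN.mem_of_mem_parabolic P Set.diff_subset (s i) (hle (mem_top _))
    exact h2.2 rfl

variable {U s} {hs : Function.Bijective s} {hUp : IsPGroup p ↥U} {hUB : U ≤ P.B}
  {hUn : ∀ b ∈ P.B, ∀ u ∈ U, b * u * b⁻¹ ∈ U} {hidx : ¬ p ∣ U.relIndex P.B}
  {hmove : ∀ i, (s i : G) ∉ normalizer (U : Set G)}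

theorem perm_ofPair_iff {i j : Fin r} (hij : i ≠ j) :
    (Chamber.ofPair P U s hs hUp hUB hUn hidx hmove).Perm i j ↔
      (s i : G) * s j * (s i : G)⁻¹ * (s j : G)⁻¹ ∈ P.B := by
  have hne : s i ≠ s j := fun e => hij (hs.1 e)
  have hcomm : (s i : G) * s j * (s i : G)⁻¹ * (s j : G)⁻¹ ∈ P.B ↔
      BN.sigma P (s i) * BN.sigma P (s j) = BN.sigma P (s j) * BN.sigma P (s i) := by
    refine ⟨fun h => ?_, BN.comm_mem_B P⟩
    have h1 := (BN.wOf_eq_one_iff P (mul_mem (mul_mem (mul_mem (P.subset (s i).2) (P.subset (s j).2))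
      (inv_mem (P.subset (s i).2))) (inv_mem (P.subset (s j).2)))).2 h
    have h2 : BN.sigma P (s i) * BN.sigma P (s j) * (BN.sigma P (s i))⁻¹ * (BN.sigma P (s j))⁻¹ = 1 := h1
    rwa [mul_inv_eq_one, mul_inv_eq_iff_eq_mul] at h2
  rw [hcomm]
  constructor
  · intro h
    have hw : (s i : G) * s j ∈ BN.C P (BN.sigma P (s i) * BN.sigma P (s j)) :=
      BN.self_mem_C P (mul_mem (P.subset (s i).2) (P.subset (s j).2))
    obtain ⟨y, hy, x, hx, e⟩ := h (s i) (BN.subset_parabolic P _ rfl) (s j) (BN.subset_parabolic P _ rfl)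
    rw [e] at hw
    have hlen := BN.len_simple_mul_simple P hne
    rcases mem_parabolic_single P (s := s j) hy with hy | hy <;>
      rcases mem_parabolic_single P (s := s i) hx with hx | hx
    · have := BN.C_unique P hw ((BN.mem_C_one_iff P).2 (mul_mem ((BN.mem_C_one_iff P).1 hy) ((BN.mem_C_one_iff P).1 hx)))
      exact absurd (mul_eq_one_iff_eq_inv.1 this) (by rw [BN.sigma_inv']; exact fun e => hne (BN.sigma_inj P e))
    · have := BN.C_unique P hw (BN.mul_mem_C_left P ((BN.mem_C_one_iff P).1 hy) hx)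
      exact absurd (mul_eq_left.1 this) (BN.sigma_ne_one P _)
    · have := BN.C_unique P hw (BN.mul_mem_C_right P hy ((BN.mem_C_one_iff P).1 hx))
      exact absurd (mul_eq_right.1 this) (BN.sigma_ne_one P _)
    · have hle : BN.len P (BN.sigma P (s i)) ≤ BN.len P (BN.sigma P (s j) * BN.sigma P (s i)) := by
        rw [BN.len_simple_mul_simple P hne.symm]
        exact (BN.wlen_sigma_le _).trans one_le_two
      exact BN.C_unique P hw (BN.mul_reduced P (s j) hle hy hx)
  · intro h x hx y hy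
    rcases mem_parabolic_single P (s := s i) hx with hx1 | hx1
    · exact ⟨x * y, mul_mem (BN.le_parabolic P _ ((BN.mem_C_one_iff P).1 hx1)) hy, 1, one_mem _, by group⟩
    rcases mem_parabolic_single P (s := s j) hy with hy1 | hy1
    · exact ⟨1, one_mem _, x * y, mul_mem hx (BN.le_parabolic P _ ((BN.mem_C_one_iff P).1 hy1)), by group⟩
    have hle : BN.len P (BN.sigma P (s j)) ≤ BN.len P (BN.sigma P (s i) * BN.sigma P (s j)) := by
      rw [BN.len_simple_mul_simple P hne]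
      exact (BN.wlen_sigma_le _).trans one_le_two
    have hxy := BN.mul_reduced P (s i) hle hx1 hy1
    rw [h] at hxy
    obtain ⟨y', hy', x', hx', e⟩ := BN.exists_mul_eq P hxy
    exact ⟨y', C_le_parabolic P _ hy', x', C_le_parabolic P _ hx', e⟩

end Pair

section RGD

open Cfsg.Agent.RGD

variable {Γ : Type*} [Group Γ] {Φ : Type*} {r : ℕ} (R : RootData Γ Φ (Fin r)) [Finite ↥R.G]
  {p : ℕ} [Fact p.Prime]

theorem parabolic_nG (i : Fin r) :
    R.bnPair.parabolic {R.nG i} = (R.cellSubgroup i).subgroupOf R.G := by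
  have h1 : ∀ g : ↥R.G, g ∈ R.B.subgroupOf R.G → g ∈ R.bnPair.parabolic {R.nG i} := fun g hg =>
    mem_sup_left hg
  refine le_antisymm (sup_le (fun g hg => Or.inl hg) ((closure_le _).2 ?_)) fun g hg => ?_
  · rintro _ rfl
    exact Or.inr (DoubleCoset.mem_doubleCoset.2 ⟨1, one_mem R.B, 1, one_mem R.B, by simp [RootData.nG]⟩)
  · rcases hg with hg | hg
    · exact h1 g hg
    · obtain ⟨b, hb, b', hb', e⟩ := DoubleCoset.mem_doubleCoset.1 hg
      have : g = ⟨b, R.B_le_G hb⟩ * R.nG i * ⟨b', R.B_le_G hb'⟩ := Subtype.ext e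
      rw [this]
      exact mul_mem (mul_mem (h1 _ hb) (BN.subset_parabolic R.bnPair _ rfl)) (h1 _ hb')

theorem nG_injective : Function.Injective R.nG := fun a b e => R.n_inj (i := a) (j := b) (by
  rw [show R.n a = R.n b from congrArg Subtype.val e, inv_mul_cancel]; exact one_mem _)

theorem nG_not_mem_normalizer (i : Fin r) :
    R.nG i ∉ normalizer (R.Upos.subgroupOf R.G : Set ↥R.G) := by
  intro h
  refine R.not_U_le_B (r := R.neg (R.simple i))
    (by rw [R.pos_neg]; exact not_not.2 (R.pos_simple i)) fun y hy => ?_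
  have h2 : (R.n i)⁻¹ * y * R.n i ∈ R.U (R.simple i) := by
    have h1 := R.n_conj_U i _ y hy
    rw [R.w_neg, R.w_simple, R.neg_neg] at h1
    simpa [mul_assoc] using R.H_conj_U _ (inv_mem (R.n_sq i)) _ _ h1
  have h3 := R.U_le_Upos (R.pos_simple i) h2
  have h4 := ((mem_normalizer_iff.1 h) ⟨_, R.B_le_G (R.Upos_le_B h3)⟩).1 h3
  have h5 : R.n i * ((R.n i)⁻¹ * y * R.n i) * (R.n i)⁻¹ ∈ R.Upos := h4
  exact R.Upos_le_B (by simpa [mul_assoc] using h5)

/-- The chamber of root group data; `hidx` says that `Upos` is a Sylow subgroup. -/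
noncomputable def Chamber.ofRGD (hUp : IsPGroup p ↥R.Upos) (hidx : ¬ p ∣ (R.Upos.subgroupOf R.G).index) :
    Chamber p ↥R.G :=
  Chamber.ofPair R.bnPair (R.Upos.subgroupOf R.G) (fun i => (⟨R.nG i, i, rfl⟩ : R.bnPair.S))
    ⟨fun _ _ e => nG_injective R (congrArg Subtype.val e), by rintro ⟨_, i, rfl⟩; exact ⟨i, rfl⟩⟩
    (hUp.comap_of_injective R.G.subtype R.G.subtype_injective)
    (fun g hg => R.Upos_le_B hg)
    (fun b hb u hu => by
      show (b : Γ) * u * (b : Γ)⁻¹ ∈ R.Upos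
      obtain ⟨v, hv, h, hh, e⟩ := R.exists_B (show (b : Γ) ∈ R.B from hb)
      rw [e, show v * h * (u : Γ) * (v * h)⁻¹ = v * (h * u * h⁻¹) * v⁻¹ by group]
      exact mul_mem (mul_mem hv (R.H_conj_span _ hh _ hu)) (inv_mem hv))
    (fun h => hidx (h.trans (relIndex_dvd_index_of_le fun g hg => R.Upos_le_B hg)))
    (fun i => nG_not_mem_normalizer R i)

variable {hUp : IsPGroup p ↥R.Upos} {hidx : ¬ p ∣ (R.Upos.subgroupOf R.G).index}

theorem perm_ofRGD_iff {i j : Fin r} (hij : i ≠ j) :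
    (Chamber.ofRGD R hUp hidx).Perm i j ↔ R.w i (R.simple j) = R.simple j := by
  refine Iff.trans (perm_ofPair_iff R.bnPair hij) ?_
  show R.n i * R.n j * (R.n i)⁻¹ * (R.n j)⁻¹ ∈ R.B ↔ _
  constructor
  · intro h
    have hH : R.n i * R.n j * (R.n i)⁻¹ * (R.n j)⁻¹ ∈ R.H := by
      rw [← R.B_inf_N]
      exact mem_inf.2 ⟨h, mul_mem (mul_mem (mul_mem (R.n_mem_N i) (R.n_mem_N j)) (inv_mem (R.n_mem_N i))) (inv_mem (R.n_mem_N j))⟩
    by_contra hne
    have hsne : R.simple j ≠ R.simple i := fun e => hij (R.simple_inj e).symm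
    have h1 : R.pos (R.w i (R.simple j)) := R.w_pos i _ (R.pos_simple j) hsne
    have h2 : R.pos (R.w j (R.w i (R.simple j))) := R.w_pos j _ h1 hne
    have h3 : ¬ R.pos (R.w i (R.w j (R.simple j))) := by
      rw [R.w_simple, R.w_neg, R.pos_neg]
      exact not_not.2 h1
    refine R.U_ne_bot (R.simple j) ((eq_bot_iff_forall _).2 fun y hy => ?_)
    have hy1 := R.n_conj_U j _ _ (R.n_conj_U i _ _ hy)
    have hy2 := R.n_conj_U i _ _ (R.n_conj_U j _ _ hy)
    have e : R.n i * (R.n j * y * (R.n j)⁻¹) * (R.n i)⁻¹ = R.n i * R.n j * (R.n i)⁻¹ * (R.n j)⁻¹ *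
        (R.n j * (R.n i * y * (R.n i)⁻¹) * (R.n j)⁻¹) * (R.n i * R.n j * (R.n i)⁻¹ * (R.n j)⁻¹)⁻¹ := by
      group
    rw [e] at hy2
    have h4 := R.H_conj_U _ hH _ _ hy1
    have h5 : _ = (1 : Γ) := mem_bot.1 (R.B_inf_V.le ⟨R.Upos_le_B (R.U_le_Upos h2 h4), R.U_le_Vneg h3 hy2⟩)
    rw [conj_eq_one_iff, conj_eq_one_iff, conj_eq_one_iff] at h5
    exact h5
  · intro h
    have hjP : (R.nG i * R.nG j * (R.nG i)⁻¹ : ↥R.G) ∈ R.bnPair.parabolic {R.nG j} := by
      rw [parabolic_nG]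
      show R.n i * R.n j * (R.n i)⁻¹ ∈ R.cellSubgroup j
      have hle : R.U (R.simple j) ⊔ R.U (R.neg (R.simple j)) ⊔ R.H ≤
          (R.cellSubgroup j).comap (MulAut.conj (R.n i)).toMonoidHom := by
        have hB : R.B ≤ R.cellSubgroup j := fun x hx => Or.inl hx
        have hU : R.U (R.simple j) ≤ R.cellSubgroup j :=
          (R.U_le_Upos (R.pos_simple j)).trans (R.Upos_le_B.trans hB)
        have hn : R.n j ∈ R.cellSubgroup j :=
          Or.inr (DoubleCoset.mem_doubleCoset.2 ⟨1, one_mem R.B, 1, one_mem R.B, by group⟩)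
        have hN : R.U (R.neg (R.simple j)) ≤ R.cellSubgroup j := fun y hy => by
          have h2 : (R.n j)⁻¹ * y * R.n j ∈ R.U (R.simple j) := by
            have h1 := R.n_conj_U j _ y hy
            rw [R.w_neg, R.w_simple, R.neg_neg] at h1
            simpa [mul_assoc] using R.H_conj_U _ (inv_mem (R.n_sq j)) _ _ h1
          have := mul_mem (mul_mem hn (hU h2)) (inv_mem hn)
          simpa [mul_assoc] using this
        refine sup_le (sup_le (fun y hy => ?_) fun y hy => ?_) fun y hy => hB (R.H_le_B (R.n_conj_H i y hy))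
        · have := R.n_conj_U i _ y hy
          rw [h] at this
          exact hU this
        · have := R.n_conj_U i _ y hy
          rw [R.w_neg, h] at this
          exact hN this
      exact hle (R.n_mem j)
    have hN : ∀ k, R.nG k ∈ R.bnPair.N := R.n_mem_N
    set si : R.bnPair.S := ⟨R.nG i, i, rfl⟩
    set sj : R.bnPair.S := ⟨R.nG j, j, rfl⟩
    have hc : BN.sigma R.bnPair si * BN.sigma R.bnPair sj = BN.sigma R.bnPair sj * BN.sigma R.bnPair si := by
      have hw : (R.nG i * R.nG j * (R.nG i)⁻¹ : ↥R.G) ∈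
          BN.C R.bnPair (BN.sigma R.bnPair si * BN.sigma R.bnPair sj * (BN.sigma R.bnPair si)⁻¹) :=
        BN.self_mem_C R.bnPair (mul_mem (mul_mem (hN i) (hN j)) (inv_mem (hN i)))
      rcases mem_parabolic_single R.bnPair (s := sj) hjP with h1 | h1
      · have h2 := BN.C_unique R.bnPair hw h1
        rw [conj_eq_one_iff] at h2
        exact absurd h2 (BN.sigma_ne_one _ _)
      · exact mul_inv_eq_iff_eq_mul.1 (BN.C_unique R.bnPair hw h1)
    exact BN.comm_mem_B R.bnPair hc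

/-- `|P_i| = |B| (1 + |U_i|)`. -/
theorem card_ofRGD (i : Fin r) :
    Nat.card ↥((Chamber.ofRGD R hUp hidx).P i) = Nat.card ↥R.B * (1 + Nat.card ↥(R.U (R.simple i))) := by
  show Nat.card ↥(R.bnPair.parabolic {R.nG i}) = _
  haveI : Finite ↥R.B := Finite.of_injective _ (inclusion_injective R.B_le_G)
  haveI : Finite ↥(R.U (R.simple i)) :=
    Finite.of_injective _ (inclusion_injective ((R.U_le_Upos (R.pos_simple i)).trans (R.Upos_le_B.trans R.B_le_G)))
  have hPG : R.cellSubgroup i ≤ R.G := by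
    rintro g (hg | hg)
    · exact R.B_le_G hg
    · obtain ⟨b, hb, b', hb', rfl⟩ := DoubleCoset.mem_doubleCoset.1 hg
      exact mul_mem (mul_mem (R.B_le_G hb) (R.n_mem_G i)) (R.B_le_G hb')
  rw [parabolic_nG, Nat.card_congr (subgroupOfEquivOfLe hPG).toEquiv]
  have hUB : R.U (R.simple i) ≤ R.B := (R.U_le_Upos (R.pos_simple i)).trans R.Upos_le_B
  have hn : R.n i ∈ R.cellSubgroup i :=
    Or.inr (DoubleCoset.mem_doubleCoset.2 ⟨1, one_mem R.B, 1, one_mem R.B, by group⟩)
  let f : ↥R.B ⊕ (↥(R.U (R.simple i)) × ↥R.B) → ↥(R.cellSubgroup i) := fun x => match x with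
    | Sum.inl b => ⟨b, Or.inl b.2⟩
    | Sum.inr q => ⟨q.1 * R.n i * q.2, mul_mem (mul_mem (Or.inl (hUB q.1.2)) hn) (Or.inl q.2.2)⟩
  have hkey : ∀ a ∈ R.U (R.simple i), ∀ b ∈ R.B, a * R.n i * b ∉ R.B := fun a ha b hb h => by
    have hnB : R.n i ∈ R.B := by
      have := mul_mem (mul_mem (inv_mem (hUB ha)) h) (inv_mem hb)
      simpa [mul_assoc] using this
    refine R.not_U_le_B (r := R.neg (R.simple i))
      (by rw [R.pos_neg]; exact not_not.2 (R.pos_simple i)) fun y hy => ?_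
    have h2 := R.n_conj_U i _ y hy
    rw [R.w_neg, R.w_simple, R.neg_neg] at h2
    simpa [mul_assoc] using mul_mem (mul_mem (inv_mem hnB) (hUB h2)) hnB
  have hbij : Function.Bijective f := by
    refine ⟨?_, ?_⟩
    · rintro (b | ⟨a, b⟩) (b' | ⟨a', b'⟩) e <;> have e' := congrArg Subtype.val e <;> simp only [f] at e'
      · exact congrArg _ (Subtype.ext e')
      · exact absurd (e' ▸ b.2) (hkey _ a'.2 _ b'.2)
      · exact absurd (e'.symm ▸ b'.2) (hkey _ a.2 _ b.2)
      · obtain ⟨a, ha⟩ := a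
        obtain ⟨a', ha'⟩ := a'
        obtain ⟨b, hb⟩ := b
        obtain ⟨b', hb'⟩ := b'
        simp only at e'
        have hc : a'⁻¹ * a ∈ R.U (R.simple i) := mul_mem (inv_mem ha') ha
        have h1 : (R.n i)⁻¹ * (a'⁻¹ * a) * R.n i = b' * b⁻¹ := by
          calc (R.n i)⁻¹ * (a'⁻¹ * a) * R.n i = (a' * R.n i)⁻¹ * (a * R.n i * b) * b⁻¹ := by group
            _ = _ := by rw [e']; group
        have hneg : ¬ R.pos (R.neg (R.simple i)) := by rw [R.pos_neg]; exact not_not.2 (R.pos_simple i)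
        have h2 : (R.n i)⁻¹ * (a'⁻¹ * a) * R.n i = 1 := mem_bot.1 (R.B_inf_V.le
          (mem_inf.2 ⟨show _ ∈ R.B from h1 ▸ mul_mem hb' (inv_mem hb), R.U_le_Vneg hneg (R.conj_n_simple' hc)⟩))
        have e1 : a'⁻¹ * a = 1 := by
          calc a'⁻¹ * a = R.n i * ((R.n i)⁻¹ * (a'⁻¹ * a) * R.n i) * (R.n i)⁻¹ := by group
            _ = 1 := by rw [h2]; group
        obtain rfl : a' = a := inv_mul_eq_one.1 e1
        obtain rfl : b = b' := mul_left_cancel e'
        rfl
    · rintro ⟨g, hg | hg⟩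
      · exact ⟨Sum.inl ⟨g, hg⟩, rfl⟩
      · obtain ⟨b, hb, b', hb', rfl⟩ := DoubleCoset.mem_doubleCoset.1 hg
        obtain ⟨k, hk, a, ha, h, hh, rfl⟩ := R.exists_B' i hb
        have hk' : a⁻¹ * k * a ∈ R.Udel i := by
          simpa using R.U_conj_Udel i (inv_mem ha) k hk
        have h1 : (R.n i)⁻¹ * (a⁻¹ * k * a) * R.n i ∈ R.B := R.Udel_le_B i (by
          have e := R.H_conj_span _ (inv_mem (R.n_sq i)) _ (R.n_conj_Udel i _ hk')
          rwa [show (R.n i * R.n i)⁻¹ * (R.n i * (a⁻¹ * k * a) * (R.n i)⁻¹) * (R.n i * R.n i)⁻¹⁻¹ =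
            (R.n i)⁻¹ * (a⁻¹ * k * a) * R.n i by group] at e)
        have h2 : (R.n i)⁻¹ * h * R.n i ∈ R.B := R.H_le_B (by
          have hH : R.n i * R.n i ∈ R.H := R.n_sq i
          have := mul_mem (mul_mem (inv_mem hH) (R.n_conj_H i h hh)) hH
          rwa [show (R.n i * R.n i)⁻¹ * (R.n i * h * (R.n i)⁻¹) * (R.n i * R.n i) = (R.n i)⁻¹ * h * R.n i by
            group] at this)
        refine ⟨Sum.inr (⟨a, ha⟩, ⟨(R.n i)⁻¹ * (a⁻¹ * k * a) * R.n i * ((R.n i)⁻¹ * h * R.n i) * b',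
          mul_mem (mul_mem h1 h2) hb'⟩), Subtype.ext ?_⟩
        simp only [f]
        group
  rw [← Nat.card_eq_of_bijective f hbij, Nat.card_sum, Nat.card_prod]
  ring

end RGD

end Cfsg.Agent.LieMinimal
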