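import Cfsg.Agent.Lib.LieMinimal.OfBN
import Cfsg.Agent.Lib.LieMinimal.Good
import Cfsg.Agent.Lib.SLRGD.Steinberg
import Cfsg.Agent.Lib.GLOrder.SympRootData

/-!
# Good chambers of groups with root group data; linear and symplectic groups

* `good_of_rgd`, `good_psl`, `good_psp`.
-/

set_option autoImplicit false
set_option linter.unusedSectionVars false

namespace Cfsg.Agent.LieMinimal

open Subgroup Cfsg.Agent.RGD

theorem Chamber.asym_map_of_card {p : ℕ} [Fact p.Prime] {G H : Type*} [Group G] [Finite G] [Group H]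
    (C : Chamber p G) (f : G →* H) (hf : Function.Surjective f) (hker : f.ker ≤ C.B) {i j : Fin C.r}
    (h : Nat.card ↥(C.P i) ≠ Nat.card ↥(C.P j)) : (C.map f hf hker).Asym := by
  refine (C.map f hf hker).asym_of_card (i := i) (j := j) fun e => h ?_
  have key : ∀ k, Nat.card ↥((C.P k).map f) * Nat.card ↥f.ker = Nat.card ↥(C.P k) := by
    intro k
    have h1 : (f.domRestrict (C.P k)).ker = f.ker.subgroupOf (C.P k) := rfl
    have h2 : (f.domRestrict (C.P k)).range = (C.P k).map f := MonoidHom.domRestrict_range (C.P k) f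
    rw [← h2, ← Nat.card_congr (subgroupOfEquivOfLe (hker.trans (C.B_le k))).toEquiv, ← h1, ← index_ker,
      mul_comm, card_mul_index]
  rw [← key i, ← key j]
  exact congrArg (· * _) e

section

variable {Γ : Type*} [Group Γ] {Φ : Type*} {r : ℕ} (R : RootData Γ Φ (Fin r)) [Finite ↥R.G]
  {p : ℕ} [Fact p.Prime] {K : Type*} [Group K]

/-- Good chambers from root group data. -/
theorem good_of_rgd (hUp : IsPGroup p ↥R.Upos) (hidx : ¬ p ∣ (R.Upos.subgroupOf R.G).index) (hr : 0 < r)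
    (π : ↥R.G →* K) (hπ : Function.Surjective π) (hker : ∀ x ∈ π.ker, (x : Γ) ∈ R.H)
    (h1 : r = 1 → Cfsg.IsLieRankOneChar p K)
    (h3 : 3 ≤ r → ∃ e c a b a₀ : Fin r, a ≠ b ∧ a ≠ c ∧ b ≠ c ∧ R.w c (R.simple a) ≠ R.simple a ∧
      R.w c (R.simple b) ≠ R.simple b ∧ ∀ j, j ≠ e → R.w e (R.simple j) ≠ R.simple j → j = a₀)
    (h2 : r = 2 → p = 2 → Exc K ∨ ∃ i j, Nat.card ↥(R.U (R.simple i)) ≠ Nat.card ↥(R.U (R.simple j))) :
    Good p K := by
  set C := Chamber.ofRGD R hUp hidx with hC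
  have hkB : π.ker ≤ C.B := fun x hx => R.H_le_B (hker x hx)
  refine ⟨C.map π hπ hkB, fun hT => ?_, h1, fun hr3 => C.branch_map _ _ hkB ?_, fun hr2 hp =>
    (h2 hr2 hp).imp_right fun ⟨i, j, h⟩ => C.asym_map_of_card π hπ hkB (i := i) (j := j) ?_⟩
  · have h := (C.map π hπ hkB).lt ⟨0, hr⟩
    rw [hT] at h
    exact not_top_lt h
  · obtain ⟨e, c, a, b, a₀, hab, hac, hbc, ha, hb, he⟩ := h3 hr3
    exact ⟨e, c, a, b, a₀, hab, hac, hbc, fun h => ha ((perm_ofRGD_iff R (Ne.symm hac)).1 h),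
      fun h => hb ((perm_ofRGD_iff R (Ne.symm hbc)).1 h),
      fun j hj hn => he j hj fun h => hn ((perm_ofRGD_iff R (Ne.symm hj)).2 h)⟩
  · intro e
    rw [card_ofRGD, card_ofRGD] at e
    haveI : Finite ↥R.B := Finite.of_injective _ (inclusion_injective R.B_le_G)
    have hBpos : 0 < Nat.card ↥R.B := Nat.card_pos
    have := Nat.eq_of_mul_eq_mul_left hBpos e
    exact h (by omega)

theorem index_subgroupOf_of_index [Finite Γ] (h : ¬ p ∣ R.Upos.index) :
    ¬ p ∣ (R.Upos.subgroupOf R.G).index :=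
  fun hd => h (hd.trans (relIndex_dvd_index_of_le (R.Upos_le_B.trans R.B_le_G)))

/-- Good chambers of central quotients of a group with root group data. -/
theorem good_of_quot [Finite Γ] (hG : R.G = ⊤) (Z : Subgroup Γ) [Z.Normal] (hZ : Z ≤ R.H)
    (hUp : IsPGroup p ↥R.Upos) (hidx : ¬ p ∣ R.Upos.index) (hr : 0 < r)
    (h1 : r = 1 → Cfsg.IsLieRankOneChar p (Γ ⧸ Z))
    (h3 : 3 ≤ r → ∃ e c a b a₀ : Fin r, a ≠ b ∧ a ≠ c ∧ b ≠ c ∧ R.w c (R.simple a) ≠ R.simple a ∧
      R.w c (R.simple b) ≠ R.simple b ∧ ∀ j, j ≠ e → R.w e (R.simple j) ≠ R.simple j → j = a₀)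
    (h2 : r = 2 → p = 2 → Exc (Γ ⧸ Z) ∨
      ∃ i j, Nat.card ↥(R.U (R.simple i)) ≠ Nat.card ↥(R.U (R.simple j))) :
    Good p (Γ ⧸ Z) := by
  refine good_of_rgd R hUp (index_subgroupOf_of_index R hidx) hr ((QuotientGroup.mk' Z).comp R.G.subtype)
    (fun y => ?_) (fun x hx => ?_) h1 h3 h2
  · obtain ⟨x, rfl⟩ := QuotientGroup.mk'_surjective Z y
    exact ⟨⟨x, hG ▸ Subgroup.mem_top x⟩, rfl⟩
  · rw [MonoidHom.mem_ker, MonoidHom.comp_apply, QuotientGroup.mk'_apply, QuotientGroup.eq_one_iff] at hx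
    exact hZ hx

end

section Linear

open Matrix

variable (F : Type) [Field F] [Fintype F] {p : ℕ} [Fact p.Prime] [CharP F p]

theorem good_psl (n : ℕ) (hn : 2 ≤ n) (h4 : n = 2 → 4 ≤ Fintype.card F) :
    Good p (ProjectiveSpecialLinearGroup (Fin n) F) := by
  obtain ⟨m, rfl⟩ : ∃ m, n = m + 1 := ⟨n - 1, by omega⟩
  obtain ⟨hp, hi⟩ := SLRGD.sylow_index F m (p := p)
  refine good_of_quot (SLRGD.slRGD F m) (SLRGD.slRGD_G F m) _ (SLRGD.center_le_diag F m) hp hi (by omega)
    (fun h => ?_) (fun h => ?_) fun h hp2 => ?_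
  · subst h
    exact Or.inl ⟨F, inferInstance, inferInstance, inferInstance, h4 rfl, ⟨MulEquiv.refl _⟩⟩
  · refine ⟨⟨0, by omega⟩, ⟨1, by omega⟩, ⟨0, by omega⟩, ⟨2, by omega⟩, ⟨1, by omega⟩, by simp [Fin.ext_iff],
      by simp [Fin.ext_iff], by simp [Fin.ext_iff], ?_, ?_, fun j hj hw => ?_⟩
    · intro e
      have := congrArg (fun x : SLRGD.Root m => x.1.2.val) e
      simp [SLRGD.slRGD, SLRGD.sw, Equiv.swap_apply_def, Fin.ext_iff] at this
    · intro e
      have := congrArg (fun x : SLRGD.Root m => x.1.1.val) e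
      simp [SLRGD.slRGD, SLRGD.sw, Equiv.swap_apply_def, Fin.ext_iff] at this
    · by_contra hne
      replace hj : (j : ℕ) ≠ 0 := fun h => hj (Fin.ext h)
      replace hne : (j : ℕ) ≠ 1 := fun h => hne (Fin.ext h)
      refine hw (Subtype.ext (Prod.ext ?_ ?_))
      · exact Equiv.swap_apply_of_ne_of_ne (by simp [SLRGD.slRGD, Fin.ext_iff]; omega)
          (by simp [SLRGD.slRGD, Fin.ext_iff]; omega)
      · exact Equiv.swap_apply_of_ne_of_ne (by simp [SLRGD.slRGD, Fin.ext_iff])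
          (by simp [SLRGD.slRGD, Fin.ext_iff]; omega)
  · subst h hp2
    exact Or.inl (Or.inl ⟨F, inferInstance, inferInstance, inferInstance, ⟨MulEquiv.refl _⟩⟩)

end Linear

section Symplectic

open GLOrder.SpRoot

variable (F : Type) [Field F] [Fintype F] {p : ℕ} [Fact p.Prime] [CharP F p]

theorem good_psp (m : ℕ) (hm : 2 ≤ m) (h3F : m = 2 → 3 ≤ Fintype.card F) : Good p (Cfsg.PSp m F) := by
  haveI : NeZero m := ⟨by omega⟩
  haveI : Finite (Matrix.symplecticGroup (Fin m) F) := Subtype.finite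
  have hUp : IsPGroup p ↥(spRD m F).Upos := by rw [spRD_Upos]; exact isPGroup_Lev p
  let P : Sylow p (Matrix.symplecticGroup (Fin m) F) :=
    { toSubgroup := Lev wf 0
      isPGroup' := isPGroup_Lev p
      is_maximal' := fun hP hle => lev_maximal p hP hle }
  refine good_of_quot (spRD m F) spRD_G _ center_le_spT hUp ?_ (by omega)
    (fun h => absurd h (by omega)) (fun h => ?_) fun h hp2 => ?_
  · rw [spRD_Upos]; exact P.not_dvd_index
  · have hw : ∀ i j : Fin m, (spRD m F).w i ((spRD m F).simple j) = (spRD m F).simple j ↔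
        wRoot i (simpleRoot j) = simpleRoot j := fun i j => Iff.rfl
    refine ⟨⟨0, by omega⟩, ⟨1, by omega⟩, ⟨0, by omega⟩, ⟨2, by omega⟩, ⟨1, by omega⟩, by simp [Fin.ext_iff],
      by simp [Fin.ext_iff], by simp [Fin.ext_iff], ?_, ?_, fun j hj hne => ?_⟩
    · rw [ne_eq, hw]
      intro e
      replace e := congrArg (fun r : GLOrder.SpRoot.Root m => htw r.1) e
      have e1 : sb (⟨0, by omega⟩ : Fin m) = .inl ⟨1, by omega⟩ := dif_pos (by show 0 + 1 < m; omega)
      have e2 : sb (⟨1, by omega⟩ : Fin m) = .inl ⟨2, by omega⟩ := dif_pos (by show 1 + 1 < m; omega)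
      simp only [simpleRoot, wRoot_root, root_val, wperm_apply, sa, e1, e2, pairFun_left] at e
      rw [pairFun_of_ne (by simp [Fin.ext_iff]) (by simp [Fin.ext_iff]) (by simp) (by simp)] at e
      simp [wf_inl] at e
    · rw [ne_eq, hw]
      intro e
      replace e := congrArg (fun r : GLOrder.SpRoot.Root m => htw r.1) e
      have e2 : sb (⟨1, by omega⟩ : Fin m) = .inl ⟨2, by omega⟩ := dif_pos (by show 1 + 1 < m; omega)
      simp only [simpleRoot, wRoot_root, root_val, wperm_apply, sa, e2, pairFun_right] at e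
      by_cases h4 : 2 + 1 < m
      · rw [show sb (⟨2, by omega⟩ : Fin m) = .inl ⟨3, by omega⟩ from dif_pos h4,
          pairFun_of_ne (by simp [Fin.ext_iff]) (by simp [Fin.ext_iff]) (by simp) (by simp)] at e
        simp [wf_inl] at e
      · rw [show sb (⟨2, by omega⟩ : Fin m) = (Sum.inl ⟨2, by omega⟩ : Ix m).swap from dif_neg h4,
          pairFun_swap, pairFun_right] at e
        simp [wf_inl, wf_inr] at e
        omega
    · by_contra hj1
      refine hne ((hw _ _).2 ?_)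
      replace hj : (j : ℕ) ≠ 0 := fun h => hj (Fin.ext h)
      replace hj1 : (j : ℕ) ≠ 1 := fun h => hj1 (Fin.ext h)
      have e1 : sb (⟨0, by omega⟩ : Fin m) = .inl ⟨1, by omega⟩ := dif_pos (by show 0 + 1 < m; omega)
      simp only [simpleRoot, wRoot_root]
      congr 1 <;> rw [wperm_apply, e1]
      · exact pairFun_of_ne (fun h => hj (congrArg Fin.val (Sum.inl.inj h)))
          (fun h => hj1 (congrArg Fin.val (Sum.inl.inj h))) Sum.inl_ne_inr Sum.inl_ne_inr
      · unfold sb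
        split_ifs with hjm
        · exact pairFun_of_ne (fun h => by have := congrArg Fin.val (Sum.inl.inj h); simp at this)
            (fun h => hj (Nat.succ.inj (congrArg Fin.val (Sum.inl.inj h) : (j : ℕ) + 1 = 0 + 1)))
            Sum.inl_ne_inr Sum.inl_ne_inr
        · exact pairFun_of_ne Sum.inr_ne_inl Sum.inr_ne_inl (fun h => hj (congrArg Fin.val (Sum.inr.inj h)))
            (fun h => hj1 (congrArg Fin.val (Sum.inr.inj h)))
  · subst h hp2
    refine Or.inl (Or.inr (Or.inl ⟨F, inferInstance, inferInstance, inferInstance, ?_, ⟨MulEquiv.refl _⟩⟩))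
    obtain ⟨k, -, hk⟩ := FiniteField.card F 2
    have h3 := h3F rfl
    rw [hk] at h3 ⊢
    have : 2 ≤ (k : ℕ) := by
      by_contra hlt
      have := k.pos
      rw [show (k : ℕ) = 1 by omega] at h3
      omega
    calc 4 = 2 ^ 2 := rfl
      _ ≤ _ := Nat.pow_le_pow_right (by norm_num) this

end Symplectic

end Cfsg.Agent.LieMinimal
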