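import Cfsg.Agent.Lib.LieMinimal.Good
import Cfsg.Agent.Lib.Seitz.Small
import Cfsg.Agent.Lib.Seitz.Exotic
import Cfsg.Agent.Lib.Suzuki.Borel

/-!
# Good chambers: the groups of rank one and the tools for the small groups

* `Chamber.ofMax`, `Chamber.ofTwo` : chambers with one or two minimal parabolics;
* `good_sz`, `good_ree`, `good_pslEight`.
-/

set_option autoImplicit false
set_option linter.unusedSectionVars false

namespace Cfsg.Agent.LieMinimal

open Subgroup
open scoped Nat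

section General

variable {p : ℕ} {G : Type*} [Group G]

/-- The chamber of a maximal normaliser. -/
def Chamber.ofMax (U : Subgroup G) (hUp : IsPGroup p ↥U) (hidx : ¬ p ∣ U.index)
    (hN : IsCoatom (normalizer (U : Set G))) : Chamber p G where
  r := 1
  U := U
  B := normalizer (U : Set G)
  P _ := ⊤
  pgrp := hUp
  index h := hidx (h.trans (relIndex_dvd_index_of_le le_normalizer))
  normalizer_eq := rfl
  lt _ := hN.1.lt_top
  exists_le M hM := ⟨0, (hN.2 M hM).ge⟩
  sup_eq := by simp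
  ne_top i := by
    obtain rfl : i = 0 := Subsingleton.elim _ _
    simpa using hN.1

theorem good_of_max (U : Subgroup G) (hUp : IsPGroup p ↥U) (hidx : ¬ p ∣ U.index)
    (hN : IsCoatom (normalizer (U : Set G))) (h1 : Cfsg.IsLieRankOneChar p G) : Good p G :=
  ⟨Chamber.ofMax U hUp hidx hN, hN.1, fun _ => h1, fun h => absurd (show 3 ≤ 1 from h) (by norm_num),
    fun h => absurd (show 1 = 2 from h) (by norm_num)⟩

/-- A proper normaliser which together with any outside element generates everything is maximal. -/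
theorem isCoatom_of_forall {N : Subgroup G} (hne : N ≠ ⊤)
    (h : ∀ M : Subgroup G, N ≤ M → ∀ g ∈ M, g ∉ N → M = ⊤) : IsCoatom N := by
  refine ⟨hne, fun M hM => ?_⟩
  obtain ⟨g, hg, hg'⟩ := SetLike.exists_of_lt hM
  exact h M hM.le g hg hg'

/-- In an overgroup of prime index every outside element generates. -/
theorem le_of_prime_index {U P M : Subgroup G} (hUP : U ≤ P) (hpr : (U.relIndex P).Prime) (hUM : U ≤ M)
    {g : G} (hgP : g ∈ P) (hgM : g ∈ M) (hgU : g ∉ U) : P ≤ M := by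
  have h1 := relIndex_mul_relIndex U (M ⊓ P) P (le_inf hUM hUP) inf_le_right
  rcases hpr.eq_one_or_self_of_dvd _ ⟨_, h1.symm⟩ with h | h
  · exact absurd (relIndex_eq_one.1 h ⟨hgM, hgP⟩) hgU
  · rw [h] at h1
    have h2 : (M ⊓ P).relIndex P = 1 := Nat.eq_of_mul_eq_mul_left hpr.pos (by rw [h1, mul_one])
    exact (relIndex_eq_one.1 h2).trans inf_le_left

/-- A chamber of a self-normalising Sylow subgroup with two minimal overgroups. -/
def Chamber.ofTwo (U : Subgroup G) (P : Fin 2 → Subgroup G) (hUp : IsPGroup p ↥U) (hidx : ¬ p ∣ U.index)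
    (hle : ∀ i, U ≤ P i) (hnorm : ∀ i, ¬ P i ≤ normalizer (U : Set G))
    (hover : ∀ M : Subgroup G, U < M → ∃ i, P i ≤ M) (hne : ∀ i, P i ≠ ⊤) (hsup : P 0 ⊔ P 1 = ⊤) :
    Chamber p G where
  r := 2
  U := U
  B := U
  P := P
  pgrp := hUp
  index h := hidx (h.trans (relIndex_dvd_index_of_le le_rfl))
  normalizer_eq := by
    by_contra h
    obtain ⟨i, hi⟩ := hover _ (lt_of_le_of_ne le_normalizer (Ne.symm h))
    exact hnorm i hi
  lt i := lt_of_le_of_ne (hle i) fun e => hnorm i (e ▸ le_normalizer)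
  exists_le := hover
  sup_eq := by
    rw [eq_top_iff, ← hsup]
    exact sup_le (le_sup_of_le_right (le_iSup P 0)) (le_sup_of_le_right (le_iSup P 1))
  ne_top i h := hne (1 - i) (top_le_iff.1 (h.ge.trans (sup_le (hle _) (iSup₂_le fun j hj => le_of_eq (by
    obtain rfl : j = 1 - i := (show ∀ a b : Fin 2, b ≠ a → b = 1 - a by decide) i j hj
    rfl)))))

theorem good_of_two (U : Subgroup G) (P : Fin 2 → Subgroup G) (hUp : IsPGroup p ↥U) (hidx : ¬ p ∣ U.index)
    (hle : ∀ i, U ≤ P i) (hnorm : ∀ i, ¬ P i ≤ normalizer (U : Set G))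
    (hover : ∀ M : Subgroup G, U < M → ∃ i, P i ≤ M) (hne : ∀ i, P i ≠ ⊤) (hsup : P 0 ⊔ P 1 = ⊤)
    (hsym : Exc G ∨ (Chamber.ofTwo U P hUp hidx hle hnorm hover hne hsup).Asym) : Good p G :=
  ⟨Chamber.ofTwo U P hUp hidx hle hnorm hover hne hsup, fun h => hne 0 (top_le_iff.1 (h.ge.trans (hle 0))),
    fun h => absurd (show 2 = 1 from h) (by norm_num), fun h => absurd (show 3 ≤ 2 from h) (by norm_num),
    fun _ _ => hsym⟩

end General

open Cfsg.Lie Cfsg.Lie.ChevalleyDatum Cfsg.Agent.Chev Cfsg.Agent.ChevBN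

section Sz

open Cfsg.Agent.Suzuki

variable {F : Type} [Field F] [Fintype F] {m : ℕ}

theorem good_sz (hm : 1 ≤ m) (hF : Fintype.card F = 2 ^ (2 * m + 1)) : Good 2 ↥(Lie.Sz F (2 ^ (m + 1))) := by
  haveI : Fact (Nat.Prime 2) := ⟨Nat.prime_two⟩
  haveI : Finite (Cfsg.Sz F m) := Subtype.finite
  refine Good.of_equiv (lieEquiv hm hF).symm ?_
  refine good_of_max (uSub hF) (uSylow hm hF).isPGroup' (by
      rw [← coe_uSylow hm hF]; exact (uSylow hm hF).not_dvd_index) ?_
    (Or.inr (Or.inr (Or.inl ⟨rfl, F, inferInstance, inferInstance, m, hm, hF, ⟨lieEquiv hm hF⟩⟩)))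
  rw [normalizer_uSub hm hF]
  exact (stabilizer_maximal hm hF).1

end Sz

section Ree

open Cfsg.Agent.Twisted

variable {K : Type} [Field K] [Fintype K] {m : ℕ}

set_option maxHeartbeats 800000 in
theorem eq_top_of_ree [CharP K 3] (hK : Fintype.card K = 3 ^ (2 * m + 1)) {M : Subgroup ↥(twistedG2 K (3 ^ m))}
    (hUM : (foldK K m).U1.subgroupOf (twistedG2 K (3 ^ m)) ≤ M) {g : ↥(twistedG2 K (3 ^ m))} (hg : g ∈ M)
    {x : ↥(twistedG2 K (3 ^ m))} (hx : x ∈ (foldK K m).U1.subgroupOf (twistedG2 K (3 ^ m)))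
    (hgx : g * x * g⁻¹ ∉ (foldK K m).U1.subgroupOf (twistedG2 K (3 ^ m))) : M = ⊤ := by
  have hU1 := U1_le_twisted (K := K) (m := m) hK
  set M' := M.map (twistedG2 K (3 ^ m)).subtype
  have hU : (foldK K m).U1 ≤ M' := fun y hy => ⟨⟨y, hU1 hy⟩, hUM hy, rfl⟩
  have hgf := twisted_le hK g.2
  rcases (rankOneK (m := m)).form hgf with ⟨u, hu, h, hh, e⟩ | ⟨u, hu, h, hh, hf, c, hc, e⟩
  · refine absurd ?_ hgx
    have h1 : h * (x : GL chevG2.Idx K) * h⁻¹ ∈ (foldK K m).U1 :=
      ⟨(rgdG2 K).H_conj_span _ hh.1 _ hx.1, mul_mem (mul_mem hh.2 hx.2) (inv_mem hh.2)⟩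
    show ((g * x * g⁻¹ : ↥(twistedG2 K (3 ^ m))) : GL chevG2.Idx K) ∈ (foldK K m).U1
    rw [Subgroup.coe_mul, Subgroup.coe_mul, Subgroup.coe_inv, e,
      show u * h * (x : GL chevG2.Idx K) * (u * h)⁻¹ = u * (h * (x : GL chevG2.Idx K) * h⁻¹) * u⁻¹ by group]
    exact mul_mem (mul_mem hu h1) (inv_mem hu)
  set n := h * (rgdG2 K).nw w0G2 with hn
  have hnM : n ∈ M' := by
    have h3 := mul_mem (mul_mem (inv_mem (hU hu)) (show (g : GL chevG2.Idx K) ∈ M' from ⟨g, hg, rfl⟩))
      (inv_mem (hU hc))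
    rwa [e, show u⁻¹ * (u * n * c) * c⁻¹ = n by group] at h3
  have hneg : ∀ y ∈ chevG2.negUnipotent K, y ∈ (foldK K m).fix → y ∈ M' := by
    intro y hy hyf
    have h1 : n⁻¹ * y * n ∈ (foldK K m).U1 := by
      refine ⟨?_, mul_mem (mul_mem (inv_mem hf) hyf) hf⟩
      have hy' : h⁻¹ * y * h⁻¹⁻¹ ∈ (rgdG2 K).Vneg :=
        (rgdG2 K).H_conj_span _ (inv_mem hh) y (show y ∈ (rgdG2 K).Vneg by
          rw [chev_Vneg good_chevG2 rootsG2]; exact hy)
      rw [← (rgdG2 K).map_conj_long (rankOneK (K := K) (m := m)).neg_pos] at hy'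
      rw [hn, show (h * (rgdG2 K).nw w0G2)⁻¹ * y * (h * (rgdG2 K).nw w0G2) =
        ((rgdG2 K).nw w0G2)⁻¹ * (h⁻¹ * y * h⁻¹⁻¹) * (rgdG2 K).nw w0G2 by group]
      exact (RGD.RootData.mem_map_conj _).1 hy'
    simpa [mul_assoc] using mul_mem (mul_mem hnM (hU h1)) (inv_mem hnM)
  have hswap : chevG2.posUnipotent K ≤ (chevG2.negUnipotent K).comap (nu good_chevG2 K) := by
    refine (Subgroup.closure_le _).2 ?_
    rintro y ⟨r, t, hr, e'⟩
    obtain rfl : y = xG K r t := Units.ext e'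
    rw [SetLike.mem_coe, Subgroup.mem_comap, xG, nu_xg good_chevG2 K nuG2 hr.1]
    exact Subgroup.subset_closure ⟨chevG2.neg r, -t,
      (isNeg_iff good_chevG2 (good_chevG2.neg_lt r hr.1)).2 (fun h' => (pos_or_neg good_chevG2 hr.1).1 h' hr),
      coe_xg good_chevG2 _ _⟩
  have htop : twistedG2 K (3 ^ m) ≤ M' := by
    refine (Subgroup.closure_le _).2 ?_
    rintro y ⟨w, hw, ey⟩
    have hyf : y ∈ (foldK K m).fix := twisted_le hK (Subgroup.subset_closure ⟨w, hw, ey⟩)
    obtain ⟨t, v, z, rfl | rfl⟩ := hw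
    · obtain rfl : y = uel good_chevG2 K (ree6 K (3 ^ m) t v z) :=
        Units.ext (ey.trans (coe_ree6 good_chevG2 t v z).symm)
      exact hU ((mem_U1_iff hK).2 ⟨t, v, z, rfl⟩)
    · obtain rfl : y = nu good_chevG2 K (uel good_chevG2 K (ree6 K (3 ^ m) t v z)) := by
        refine Units.ext (ey.trans ?_)
        rw [nu_uel]
        rfl
      exact hneg _ (hswap ((mem_posUnipotent good_chevG2 K).2 ⟨_, rfl⟩)) hyf
  rw [eq_top_iff]
  intro y _
  obtain ⟨y', hy', ey⟩ := htop y.2
  exact (Subtype.ext ey : y' = y) ▸ hy'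

theorem good_ree (hm : 1 ≤ m) (hK : Fintype.card K = 3 ^ (2 * m + 1)) :
    Good 3 ↥(twistedG2 K (3 ^ m)) := by
  haveI : Fact (Nat.Prime 3) := ⟨Nat.prime_three⟩
  haveI := charP_ree hK
  have hU1 := U1_le_twisted (K := K) (m := m) hK
  set Q := (foldK K m).U1.subgroupOf (twistedG2 K (3 ^ m)) with hQ
  have hcQ : Nat.card ↥Q = (3 ^ (2 * m + 1)) ^ 3 :=
    (Nat.card_congr (subgroupOfEquivOfLe hU1).toEquiv).trans (card_U1 hK)
  obtain ⟨h₀, hh₀, hf, hn0⟩ := exists_m0 hK
  refine good_of_max Q (IsPGroup.of_card (n := (2 * m + 1) * 3) (by rw [hcQ, ← pow_mul])) ?_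
    (isCoatom_of_forall ?_ fun M hM g hg hgN => ?_)
    (Or.inr (Or.inr (Or.inr ⟨rfl, Or.inl ⟨K, inferInstance, inferInstance, m, hm, hK, ⟨MulEquiv.refl _⟩⟩⟩)))
  · intro h
    have h1 := card_mul_index Q
    rw [hcQ, card_ree hK, mul_assoc] at h1
    rw [Nat.eq_of_mul_eq_mul_left (pow_pos (pow_pos (by norm_num) _) _) h1] at h
    have h3 : 3 ∣ 3 ^ (2 * m + 1) := dvd_pow_self 3 (by omega)
    have h3' : 3 ∣ (3 ^ (2 * m + 1)) ^ 3 := dvd_pow h3 (by norm_num)
    rcases (Nat.prime_three.dvd_mul).1 h with h | h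
    · have : 1 ≤ 3 ^ (2 * m + 1) := Nat.one_le_pow _ _ (by norm_num)
      omega
    · omega
  · intro htop
    have hn : Q.Normal := normalizer_eq_top_iff.1 htop
    obtain ⟨y, hy, hy1⟩ := exists_U1_ne_one (K := K) (m := m) hK
    have h2 := hn.conj_mem ⟨y, hU1 hy⟩ hy ⟨_, hn0⟩
    change h₀ * (rgdG2 K).nw w0G2 * y * (h₀ * (rgdG2 K).nw w0G2)⁻¹ ∈ (foldK K m).U1 at h2
    refine hy1 (conj_eq_one_iff.1 (Subgroup.mem_bot.1 ((rgdG2 K).B_inf_V.le
      ⟨(rgdG2 K).Upos_le_B h2.1, ?_⟩)))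
    rw [show h₀ * (rgdG2 K).nw w0G2 * y * (h₀ * (rgdG2 K).nw w0G2)⁻¹ =
      h₀ * ((rgdG2 K).nw w0G2 * y * ((rgdG2 K).nw w0G2)⁻¹) * h₀⁻¹ by group]
    exact (rgdG2 K).H_conj_span _ hh₀ _
      (show _ ∈ (rgdG2 K).Vneg from (rgdG2 K).map_conj_long (rankOneK (K := K) (m := m)).neg_pos ▸ ⟨y, hy.1, rfl⟩)
  · by_contra hne
    refine hgN (mem_normalizer_of_map_le fun x hx => ?_)
    by_contra hgx
    exact hne (eq_top_of_ree hK (le_normalizer.trans hM) hg hx hgx)

end Ree

section PSLEight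

open Cfsg.Agent.Seitz

theorem good_pslEight {F : Type} [Field F] [Fintype F] (hF : Fintype.card F = 8) :
    Good 3 (Matrix.ProjectiveSpecialLinearGroup (Fin 2) F) := by
  classical
  haveI : Fact (Nat.Prime 3) := ⟨Nat.prime_three⟩
  haveI : IsSimpleGroup (Matrix.ProjectiveSpecialLinearGroup (Fin 2) F) :=
    PSL2.isSimpleGroup_psl (by rw [Nat.card_eq_fintype_card, hF]; norm_num)
  set G := Matrix.ProjectiveSpecialLinearGroup (Fin 2) F
  have hG : Nat.card G = 504 := by
    have h := PSL2.card_psl_mul (F := F)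
    rw [Nat.card_eq_fintype_card (α := F), hF] at h
    simpa using h
  have hbig : ∀ M : Subgroup G, M ≠ ⊤ → M.index ∣ 56 → M.index ∈ ([8, 14, 28, 56] : List ℕ) := by
    intro M hM hd
    have hfac := card_dvd_factorial_index hM
    rw [hG] at hfac
    have key : ∀ d ∈ Nat.divisors 56, 504 ∣ d ! → d ∈ ([7, 8, 14, 28, 56] : List ℕ) := by decide +kernel
    have h := key _ (Nat.mem_divisors.2 ⟨hd, by norm_num⟩) hfac
    rcases List.mem_cons.1 h with h7 | h
    · exfalso
      haveI := Fintype.ofFinite (G ⧸ M)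
      have hc : Fintype.card (G ⧸ M) = 7 := by rw [← Nat.card_eq_fintype_card]; exact h7
      set f := MulAction.toPermHom G (G ⧸ M)
      have hk : f.ker = ⊥ := by
        rw [← Subgroup.normalCore_eq_ker]
        exact (IsSimpleGroup.eq_bot_or_eq_top_of_normal _ (Subgroup.normalCore_normal M)).resolve_right
          fun e => hM (eq_top_iff.2 (e ▸ Subgroup.normalCore_le M))
      have hsign : f.range ≤ alternatingGroup (G ⧸ M) := by
        rintro _ ⟨g, rfl⟩
        rcases IsSimpleGroup.eq_bot_or_eq_top_of_normal _ (Equiv.Perm.sign.comp f).normal_ker with e | e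
        · have := Subgroup.card_dvd_of_injective _ ((MonoidHom.ker_eq_bot_iff _).1 e)
          rw [hG, Nat.card_eq_fintype_card, Fintype.card_units_int] at this
          norm_num at this
        · exact MonoidHom.mem_ker.1 (e.symm ▸ Subgroup.mem_top g : g ∈ (Equiv.Perm.sign.comp f).ker)
      haveI : Nontrivial (G ⧸ M) := Fintype.one_lt_card_iff_nontrivial.1 (by omega)
      haveI : IsSimpleGroup (alternatingGroup (G ⧸ M)) :=
        alternatingGroup.isSimpleGroup (by rw [Nat.card_eq_fintype_card]; omega)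
      have hA : Nat.card (alternatingGroup (G ⧸ M)) = 2520 := by
        rw [nat_card_alternatingGroup, Nat.card_eq_fintype_card, hc]; rfl
      set H := f.range.subgroupOf (alternatingGroup (G ⧸ M))
      have hH : Nat.card ↥H = 504 := by
        rw [Nat.card_congr (subgroupOfEquivOfLe hsign).toEquiv,
          ← Nat.card_congr (MonoidHom.ofInjective ((MonoidHom.ker_eq_bot_iff _).1 hk)).toEquiv, hG]
      have hm := H.card_mul_index
      rw [hH, hA] at hm
      have h5 : H.index = 5 := by omega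
      have := card_dvd_factorial_index (G := alternatingGroup (G ⧸ M)) (M := H) fun e => by
        rw [e, index_top] at h5; norm_num at h5
      rw [h5, hA] at this
      norm_num [Nat.factorial] at this
    · exact h
  obtain ⟨S⟩ := (inferInstance : Nonempty (Sylow 3 G))
  have hS : Nat.card ↥(S : Subgroup G) = 9 := by
    rw [S.card_eq_multiplicity, hG, show (504 : ℕ) = 3 ^ 2 * 56 by norm_num,
      Nat.factorization_mul (by norm_num) (by norm_num), Finsupp.add_apply,
      Nat.Prime.factorization_pow Nat.prime_three, Finsupp.single_eq_same,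
      Nat.factorization_eq_zero_of_not_dvd (by norm_num : ¬ 3 ∣ 56)]
    norm_num
  have hSi : (S : Subgroup G).index = 56 := by
    have := (S : Subgroup G).card_mul_index
    rw [hS, hG] at this
    omega
  have hN : (normalizer ((S : Subgroup G) : Set G)) ≠ ⊤ := by
    intro h
    rcases IsSimpleGroup.eq_bot_or_eq_top_of_normal _ (normalizer_eq_top_iff.1 h) with e | e
    · rw [e, card_bot] at hS; norm_num at hS
    · rw [e, card_top, hG] at hS; norm_num at hS
  have hNi : (normalizer ((S : Subgroup G) : Set G)).index = 28 := by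
    have h1 := hbig _ hN (hSi ▸ index_dvd_of_le le_normalizer)
    have h2 := card_sylow_modEq_one 3 G
    rw [S.card_eq_index_normalizer, Nat.ModEq] at h2
    change (normalizer ((S : Subgroup G) : Set G)).index % 3 = 1 % 3 at h2
    simp only [List.mem_cons, List.not_mem_nil, or_false] at h1
    rcases h1 with h | h | h | h <;> rw [h] at h2 <;> first | exact h | norm_num at h2
  refine good_of_max (S : Subgroup G) S.isPGroup' S.not_dvd_index
    (isCoatom_of_forall hN fun M hM g hg hgN => ?_)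
    (Or.inr (Or.inr (Or.inr ⟨rfl, Or.inr ⟨F, inferInstance, inferInstance, hF, ⟨MulEquiv.refl _⟩⟩⟩)))
  by_contra hne
  have h1 := hbig M hne (hSi ▸ index_dvd_of_le (le_normalizer.trans hM))
  have h2 : M.index ∣ 28 := hNi ▸ index_dvd_of_le hM
  have h3 := relIndex_mul_index hM
  rw [hNi] at h3
  simp only [List.mem_cons, List.not_mem_nil, or_false] at h1
  rcases h1 with h | h | h | h <;> rw [h] at h2 h3
  · norm_num at h2
  · have h4 : (normalizer ((S : Subgroup G) : Set G)).relIndex M = 2 := by omega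
    have hn : ((normalizer ((S : Subgroup G) : Set G)).subgroupOf M).Normal := normal_of_index_eq_two h4
    have hle : (S : Subgroup G).map (MulAut.conj g).toMonoidHom ≤ normalizer ((S : Subgroup G) : Set G) := by
      rintro _ ⟨s, hs, rfl⟩
      exact hn.conj_mem ⟨s, hM (le_normalizer hs)⟩ (le_normalizer hs) ⟨g, hg⟩
    have hp := IsPGroup.to_sup_of_normal_right' (S.isPGroup'.map (MulAut.conj g).toMonoidHom) S.isPGroup' hle
    have heq := S.is_maximal' hp le_sup_right
    refine hgN (mem_normalizer_of_map_le fun u hu => heq ▸ mem_sup_left ?_)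
    exact ⟨u, hu, rfl⟩
  · have h4 : (normalizer ((S : Subgroup G) : Set G)).relIndex M = 1 := by omega
    exact hgN (relIndex_eq_one.1 h4 hg)
  · norm_num at h2

end PSLEight

end Cfsg.Agent.LieMinimal
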